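import Mathlib
import Cfsg.Agent.Base
import Cfsg.Agent.Lib.Stein3.Core
import Cfsg.Agent.Lib.Weyl.Types
import Cfsg.Agent.Lib.Chev.Torus

/-! Generation of groups with root elements by two elements. -/

set_option autoImplicit false

open scoped commutatorElement

namespace H37.Gen

open H38 H39 H6

section Grp

variable {G : Type*} [Group G] {K : Type*} [Field K] {M : Subgroup G}

lemma mem_of_coprime {h y : G} (hc : Commute h y) {m e : ℕ} (hm : h ^ m = 1) (he : y ^ e = 1)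
    (hco : m.Coprime e) (hM : h * y ∈ M) : h ∈ M ∧ y ∈ M := by
  have h1 : h ^ e ∈ M := by
    have := pow_mem hM e
    rwa [hc.mul_pow, he, mul_one] at this
  have h2 : h ∈ M := by
    have e1 : h = (h ^ m) ^ Nat.gcdA m e * (h ^ e) ^ Nat.gcdB m e := by
      rw [← zpow_natCast, ← zpow_natCast, ← zpow_mul, ← zpow_mul, ← zpow_add, ← Nat.gcd_eq_gcd_ab,
        hco.gcd_eq_one]
      simp
    rw [e1, hm, one_zpow, one_mul]
    exact zpow_mem h1 _
  exact ⟨h2, (M.mul_mem_cancel_left h2).mp hM⟩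

variable {y : K → G}

lemma line_zero (hy : ∀ a b, y a * y b = y (a + b)) : y 0 = 1 := by
  have := hy 0 0
  rw [add_zero] at this
  exact mul_eq_left.mp this

lemma line_neg (hy : ∀ a b, y a * y b = y (a + b)) (a : K) : y (-a) = (y a)⁻¹ :=
  eq_inv_of_mul_eq_one_left (by rw [hy, neg_add_cancel, line_zero hy])

lemma line_nsmul (hy : ∀ a b, y a * y b = y (a + b)) (a : K) (k : ℕ) : y a ^ k = y (k * a) := by
  induction k with
  | zero => simp [line_zero hy]
  | succ k ih => rw [pow_succ, ih, hy]; congr 1; push_cast; ring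

lemma line_pow {g : G} (hg : g ∈ M) {γ : K} (h1 : ∀ t, g * y t * g⁻¹ = y (γ * t)) {c : K}
    (hc : y c ∈ M) (j : ℕ) : y (γ ^ j * c) ∈ M := by
  induction j with
  | zero => simpa using hc
  | succ j ih =>
    rw [pow_succ', mul_assoc, ← h1]
    exact mul_mem (mul_mem hg ih) (inv_mem hg)

lemma line_all (hy : ∀ a b, y a * y b = y (a + b)) {h h' : G} (hh : Commute h h') {α β : K}
    (h1 : ∀ t, h * y t * h⁻¹ = y (α * t)) (h2 : ∀ t, h' * y t * h'⁻¹ = y (β * t))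
    (hα : ∀ t, t ≠ 0 → ∃ j : ℕ, t = α ^ j) (hα1 : α ≠ 1) (hβ : β ≠ 1) (hM : h ∈ M)
    (hb : y 1 * h' * (y 1)⁻¹ ∈ M) (t : K) : y t ∈ M := by
  have hc : y ((α - 1) * (1 - β)) ∈ M := by
    have e : y ((α - 1) * (1 - β)) =
        h * (y 1 * h' * (y 1)⁻¹) * h⁻¹ * (y 1 * h' * (y 1)⁻¹)⁻¹ := by
      have e1 : h * (y 1 * h' * (y 1)⁻¹) * h⁻¹ * (y 1 * h' * (y 1)⁻¹)⁻¹ =
          (h * y 1 * h⁻¹) * ((h * h' * h⁻¹) * ((h * y 1 * h⁻¹)⁻¹ * y 1) * h'⁻¹) * (y 1)⁻¹ := by group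
      rw [e1, hh.eq, mul_inv_cancel_right, h1, ← line_neg hy, hy, h2, ← line_neg hy, hy, hy]
      congr 1; ring
    rw [e]
    exact mul_mem (mul_mem (mul_mem hM hb) (inv_mem hM)) (inv_mem hb)
  have h0 : (α - 1) * (1 - β) ≠ 0 := mul_ne_zero (sub_ne_zero.mpr hα1) (sub_ne_zero.mpr hβ.symm)
  by_cases ht : t = 0
  · rw [ht, line_zero hy]; exact one_mem _
  · obtain ⟨j, hj⟩ := hα (t * ((α - 1) * (1 - β))⁻¹) (mul_ne_zero ht (inv_ne_zero h0))
    have := line_pow hM h1 hc j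
    rwa [← hj, inv_mul_cancel_right₀ h0] at this

lemma line_sq [Finite K] (hy : ∀ a b, y a * y b = y (a + b)) (h : ∀ t, t ≠ 0 → y (t ^ 2) ∈ M)
    (t : K) : y t ∈ M := by
  have h' : ∀ t, y (t ^ 2) ∈ M := fun t => by
    by_cases ht : t = 0
    · rw [ht, zero_pow two_ne_zero, line_zero hy]; exact one_mem _
    · exact h t ht
  by_cases h2 : ringChar K = 2
  · obtain ⟨s, rfl⟩ := FiniteField.isSquare_of_char_two h2 t
    rw [← sq]; exact h' s
  · have h3 : (2 : K) ≠ 0 := Ring.two_ne_zero h2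
    have : t = ((t + 1) / 2) ^ 2 + -((t - 1) / 2) ^ 2 := by field_simp; ring
    rw [this, ← hy, line_neg hy]
    exact mul_mem (h' _) (inv_mem (h' _))

lemma exists_gen (K : Type*) [Field K] [Finite K] :
    ∃ k : Kˣ, ∀ t : Kˣ, ∃ j : ℕ, t = k ^ j := by
  obtain ⟨k, hk⟩ := IsCyclic.exists_monoid_generator (α := Kˣ)
  exact ⟨k, fun t => let ⟨j, hj⟩ := hk t; ⟨j, hj.symm⟩⟩

lemma gen_zpow [Finite K] {k : Kˣ} (hk : ∀ t : Kˣ, ∃ j : ℕ, t = k ^ j) {a b c : ℤ}
    (h : ∀ t : Kˣ, t ^ (a * b) = t ^ c) (t : K) (ht : t ≠ 0) :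
    ∃ j : ℕ, t ^ c = ((k ^ a : Kˣ) : K) ^ j := by
  obtain ⟨j, hj⟩ := hk (Units.mk0 t ht ^ b)
  refine ⟨j, ?_⟩
  rw [← Units.val_pow_eq_pow_val, ← zpow_natCast, ← zpow_mul, mul_comm, zpow_mul, zpow_natCast, ← hj,
    ← zpow_mul, mul_comm, h]
  simp

lemma closure_map {G' : Type*} [Group G'] (φ : G →* G') {Γ : Subgroup G} {A : Subgroup G'}
    (hA : A = Γ.map φ) {a b : G} (ha : a ∈ Γ) (hb : b ∈ Γ) (h : Γ ≤ Subgroup.closure {a, b}) :
    ∃ a b : A, Subgroup.closure ({a, b} : Set A) = ⊤ := by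
  subst hA
  refine ⟨⟨φ a, a, ha, rfl⟩, ⟨φ b, b, hb, rfl⟩, ?_⟩
  apply Subgroup.map_injective (Subgroup.subtype_injective _)
  rw [MonoidHom.map_closure, Set.image_pair, ← MonoidHom.range_eq_map, Subgroup.range_subtype]
  simp only [Subgroup.coe_subtype]
  rw [← Set.image_pair, ← MonoidHom.map_closure]
  congr 1
  exact le_antisymm ((Subgroup.closure_le _).mpr (Set.pair_subset ha hb)) h

end Grp

variable {ι : Type} {n : ℕ} {R : RS ι (Fin n)} {AL : List (List ℤ)}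

/-- The Cartan matrix of `R` is the table `AL`. -/
structure Tab (R : RS ι (Fin n)) (AL : List (List ℤ)) : Prop where
  len : AL.length = n
  rows : ∀ r ∈ AL, r.length = n
  hA : ∀ i j, R.A i j = matF n AL j i

/-- The Weyl group element of a word. -/
noncomputable def wp (R : RS ι (Fin n)) (ω : List (Fin n)) : Equiv.Perm ι := (ω.map R.s).prod

lemma wp_mem (ω : List (Fin n)) : wp R ω ∈ R.W := R.list_prod_mem_WJ fun _ _ => Set.mem_univ _

lemma wp_nil : wp R [] = 1 := rfl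

lemma wp_cons (i : Fin n) (ω : List (Fin n)) : wp R (i :: ω) = R.s i * wp R ω := by simp [wp]

lemma wp_append (ω ω' : List (Fin n)) : wp R (ω ++ ω') = wp R ω * wp R ω' := by simp [wp]

lemma wp_reverse (ω : List (Fin n)) : wp R ω.reverse = (wp R ω)⁻¹ := by
  induction ω with
  | nil => simp [wp]
  | cons i ω ih =>
    rw [List.reverse_cons, wp_append, ih, wp_cons, wp_cons, wp_nil, mul_one, mul_inv_rev, R.s_inv]

lemma wp_refl (ω : List (Fin n)) (i : Fin n) :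
    wp R (ω ++ i :: ω.reverse) = R.refl (wp R ω (R.sim i)) := by
  rw [wp_append, wp_cons, wp_reverse, R.refl_W (wp_mem ω), mul_assoc]; rfl

/-- The root `r` has weight coordinates `v`. -/
def Is (R : RS ι (Fin n)) (r : ι) (v : List ℤ) : Prop := v.length = n ∧ R.wt r = toF n v

lemma Is.unique {r r' : ι} {v : List ℤ} (h : Is R r v) (h' : Is R r' v) : r = r' :=
  R.wt_inj fun i => by rw [h.2, h'.2]

lemma Is.neg {r : ι} {v : List ℤ} (h : Is R r v) : Is R (R.neg r) (v.map (-·)) := by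
  refine ⟨by rw [List.length_map, h.1], funext fun i => ?_⟩
  have hi : (i : ℕ) < v.length := h.1 ▸ i.2
  rw [R.wt_neg, h.2]
  simp [toF, List.getD_eq_getElem?_getD, hi]

namespace Tab

variable (hT : Tab R AL)
include hT

lemma sim (i : Fin n) : Is R (R.sim i) (AL.getD i []) := by
  have hi : (i : ℕ) < AL.length := hT.len ▸ i.2
  refine ⟨?_, funext fun j => ?_⟩
  · rw [List.getD_eq_getElem _ _ hi]; exact hT.rows _ (List.getElem_mem hi)
  · rw [R.wt_sim, hT.hA]; rfl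

lemma wp {r : ι} {v : List ℤ} (h : Is R r v) (ω : List (Fin n)) :
    Is R (wp R ω r) (wordL AL ω v) := by
  induction ω with
  | nil => exact h
  | cons i ω ih =>
    have e : wordL AL (i :: ω) v = wreflL AL i (wordL AL ω v) := rfl
    rw [e, wp_cons, Equiv.Perm.mul_apply]
    refine ⟨length_wreflL hT.len hT.rows ih.1 i, funext fun j => ?_⟩
    rw [toF_wreflL hT.len hT.rows ih.1, ← ih.2, RS.s, R.wt_refl, R.pair_sim_left, R.wt_sim, hT.hA]
    rfl

lemma pair {s : ι} {v : List ℤ} (h : Is R s v) (ω : List (Fin n)) (i : Fin n) :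
    R.pair (Gen.wp R ω (R.sim i)) s = (wordL AL ω.reverse v).getD i 0 := by
  rw [pair_W' (wp_mem ω), R.pair_sim_left, ← wp_reverse, (hT.wp h _).2]; rfl

lemma pair' (ω ω' : List (Fin n)) (i j : Fin n) :
    R.pair (Gen.wp R ω (R.sim i)) (Gen.wp R ω' (R.sim j)) =
      (wordL AL ω.reverse (wordL AL ω' (AL.getD j []))).getD i 0 :=
  hT.pair (hT.wp (hT.sim j) ω') ω i

lemma wp_eq {ω ω' : List (Fin n)}
    (h : ∀ j : Fin n, wordL AL ω (AL.getD j []) = wordL AL ω' (AL.getD j [])) :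
    Gen.wp R ω = Gen.wp R ω' := by
  ext r
  apply R.rt_inj
  rw [R.rt_W (wp_mem ω), R.rt_W (wp_mem ω'), R.lin_apply, R.lin_apply]
  refine Finset.sum_congr rfl fun j _ => ?_
  rw [(hT.wp (hT.sim j) ω).unique (h j ▸ hT.wp (hT.sim j) ω')]

end Tab

/-! ### Cones -/

section Cone

variable {l : Type} [Fintype l] [DecidableEq l] {R : RS ι l}

/-- The ratio of two root lengths is at most two. -/
def L12 (R : RS ι l) : Prop := ∀ k r, R.len k ≤ 2 * R.len r

lemma L12.of_sim (h : ∀ i j, R.len (R.sim i) ≤ 2 * R.len (R.sim j)) : L12 R := fun k r => by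
  obtain ⟨w, hw, i, rfl⟩ := R.exists_W_sim k
  obtain ⟨w', hw', j, rfl⟩ := R.exists_W_sim r
  rw [R.len_W hw, R.len_W hw']; exact h i j

lemma L12.cone1 (h : L12 R) {a b : ι} (hp : 1 ≤ R.pair a b) : b ≠ R.neg a ∧ R.Cone a b = ∅ := by
  have h3 := R.len_pos a
  have h4 := R.len_pos b
  refine ⟨?_, cone_empty (fun k => h k a) (by omega) (by nlinarith)⟩
  rintro rfl
  rw [R.pair_neg_right, R.pair_self] at hp; omega

lemma cone0 {a b : ι} {i : l} (hi : ∀ j, R.len (R.sim j) ≤ R.len (R.sim i))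
    (ha : R.len a = R.len (R.sim i)) (hp : R.pair a b = 0) : b ≠ R.neg a ∧ R.Cone a b = ∅ := by
  have h4 := R.len_pos b
  refine ⟨?_, cone_empty (m := R.len a) (fun k => ?_) hp.ge (by rw [hp]; omega)⟩
  · rintro rfl
    rw [R.pair_neg_right, R.pair_self] at hp; omega
  · obtain ⟨w, hw, j, rfl⟩ := R.exists_W_sim k
    rw [R.len_W hw, ha]; exact hi j

lemma L12.cone2 (h : L12 R) {a b r : ι} (hp : R.pair a b = -1) (hp' : R.pair b a = -1)
    (hr : R.rt r = R.rt a + R.rt b) : R.Cone a b ⊆ {r} := by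
  rintro k ⟨i, j, hi, hj, e⟩
  have h1 := len_comb e
  have hl := R.len_mul_pair a b
  rw [hp, hp', mul_neg, mul_neg, neg_inj, mul_one, mul_one] at hl
  rw [← hl, hp] at h1
  have h2 := h k a
  have h3 := R.len_pos a
  have h4 : i ^ 2 + j ^ 2 - i * j ≤ 2 := by nlinarith
  have h5 : i = 1 := by nlinarith [sq_nonneg (2 * j - i), sq_nonneg (j - 1)]
  have h6 : j = 1 := by nlinarith
  apply R.rt_inj
  rw [e, hr, h5, h6, one_smul, one_smul]

variable {K : Type*} [Field K] {G : Type*} [Group G] {E : Elts R K G}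

lemma L12.pairs {a b : ι} (hp : R.pair a b = -1) (hp' : R.pair b a = -1) :
    R.pair (R.neg a) (R.refl a b) = -1 ∧ R.pair (R.refl a b) (R.neg a) = -1 ∧
      R.rt b = R.rt (R.neg a) + R.rt (R.refl a b) := by
  refine ⟨?_, ?_, ?_⟩
  · rw [R.pair_neg_left, pair_refl_right, hp, R.pair_self]; rfl
  · rw [← R.refl_self, R.pair_refl, hp']
  · rw [R.rt_refl, hp, R.rt_neg]; module

lemma L12.sum_mem (h : L12 R) {M : Subgroup G} {a b : ι} (hp : R.pair a b = -1)
    (hp' : R.pair b a = -1) (ha : ∀ t, E.x a t ∈ M) (hb : ∀ t, E.x b t ∈ M) (t : K) :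
    E.x (R.refl a b) t ∈ M := by
  obtain ⟨p1, p2, p3⟩ := L12.pairs hp hp'
  refine x_refl_mem (ne_of_pair (R := R) (by omega) (by omega)).1
    (h.cone1 (by rw [R.pair_neg_left]; omega)).2 ?_ ha hb (fun k hk => ?_) t
  · rw [R.pair_neg_left] at p1
    exact (ne_of_pair (R := R) (by omega) (by omega)).1
  · rw [h.cone2 p1 p2 p3 hk]; exact hb

lemma L12.comm_two [Finite ι] (h : L12 R) (hF : E.Faith) (h2 : ∀ t : K, t = 0 ∨ t = 1) {a b : ι}
    (hp : R.pair a b = -1) (hp' : R.pair b a = -1) :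
    E.x a 1 * E.x b 1 * (E.x a 1)⁻¹ * (E.x b 1)⁻¹ = E.x (R.refl a b) 1 := by
  obtain ⟨p1, p2, p3⟩ := L12.pairs hp hp'
  have n1 := ne_of_pair (R := R) (a := a) (r := b) (by omega) (by omega)
  have p4 : R.pair b (R.refl a b) = 1 := by rw [pair_refl_right, hp, hp', R.pair_self]; rfl
  have n2 := ne_of_pair (R := R) (a := b) (r := R.refl a b) (by omega) (by omega)
  have hc := E.XS_mono (h.cone2 (r := R.refl a b) hp hp' (by rw [R.rt_refl, hp]; module))
    (E.comm_of_ne_neg n1.2 1 1)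
  rw [PreElts.XS_singleton] at hc
  obtain ⟨t, ht⟩ := hc
  rcases h2 t with rfl | rfl
  · exfalso
    obtain ⟨u, m, hm, e⟩ := exists_refl_eq (E := E) n1.1
      (h.cone1 (by rw [R.pair_neg_left]; omega)).2
      (by rw [R.pair_neg_left] at p1; exact (ne_of_pair (R := R) (by omega) (by omega)).1) 1
    have hm' := E.XS_mono (h.cone2 p1 p2 p3) hm
    rw [PreElts.XS_singleton] at hm'
    obtain ⟨v, rfl⟩ := hm'
    have e2 : E.x a 1 * E.x b u * (E.x a 1)⁻¹ = E.x b u := by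
      rcases h2 u with rfl | rfl
      · simp [E.x_zero]
      · rw [E.x_zero, eq_comm, mul_inv_eq_one] at ht; exact ht
    rw [e2, ← eq_inv_mul_iff_mul_eq, ← E.x_neg, E.x_add] at e
    exact one_ne_zero (eq_zero_of_x_eq hF n2.1 n2.2 e.symm)
  · exact ht.symm

lemma sc_conj {g m : G} {w : Equiv.Perm ι} (hm : E.Rep m w) {r : ι} {c : K} (h : Sc E g r c) :
    Sc E (m * g * m⁻¹) (w r) c := fun t => by
  obtain ⟨d, hd, h1⟩ := hm.conj_x r
  have e := h1 (d⁻¹ * t)
  rw [mul_inv_cancel_left₀ hd] at e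
  rw [← e, show c * t = d * (c * (d⁻¹ * t)) by field_simp, ← h1, ← h]
  group

end Cone

/-! ### Certificates -/

variable {K : Type*} [Field K] {G : Type*} [Group G] {E : Elts R K G} {M : Subgroup G}

/-- `M` contains a representative of the word `ω`. -/
def WM (E : Elts R K G) (M : Subgroup G) (ω : List (Fin n)) : Prop := ∃ g ∈ M, E.Rep g (wp R ω)

/-- `M` contains the root subgroup with weight coordinates `v`. -/
def InX (E : Elts R K G) (M : Subgroup G) (v : List ℤ) : Prop :=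
  ∃ r, Is R r v ∧ ∀ t, E.x r t ∈ M

lemma InX.mem {v : List ℤ} (h : InX E M v) {r : ι} (hr : Is R r v) (t : K) : E.x r t ∈ M := by
  obtain ⟨s, hs, h⟩ := h
  rw [hr.unique hs]; exact h t

lemma WM.nil : WM E M [] := ⟨1, one_mem _, E.rep_one⟩

lemma WM.append {ω ω' : List (Fin n)} (h : WM E M ω) (h' : WM E M ω') : WM E M (ω ++ ω') := by
  obtain ⟨g, hg, h⟩ := h
  obtain ⟨g', hg', h'⟩ := h'
  exact ⟨_, mul_mem hg hg', wp_append ω ω' ▸ h.mul h'⟩

lemma WM.reverse {ω : List (Fin n)} (h : WM E M ω) : WM E M ω.reverse := by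
  obtain ⟨g, hg, h⟩ := h
  exact ⟨_, inv_mem hg, wp_reverse ω ▸ h.inv⟩

lemma WM.rep {ω : List (Fin n)} (h : WM E M ω) (k : ℕ) :
    WM E M (List.replicate k ω).flatten := by
  induction k with
  | zero => exact WM.nil
  | succ k ih => rw [List.replicate_succ, List.flatten_cons]; exact h.append ih

lemma rep_mem {g : G} (hg : g ∈ M) {w : Equiv.Perm ι} (h : E.Rep g w) {r : ι}
    (hr : ∀ t, E.x r t ∈ M) (t : K) : E.x (w r) t ∈ M := by
  obtain ⟨d, hd, h1⟩ := h.conj_x r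
  rw [← mul_inv_cancel_left₀ hd t, ← h1]
  exact mul_mem (mul_mem hg (hr _)) (inv_mem hg)

lemma n_mem {r : ι} (h1 : ∀ t, E.x r t ∈ M) (h2 : ∀ t, E.x (R.neg r) t ∈ M) : E.n r 1 ∈ M :=
  mul_mem (mul_mem (h1 _) (h2 _)) (h1 _)

/-- A word in known words. -/
def exw (Ω : List (List (Fin n))) (u : List ℕ) : List (Fin n) := (u.map fun a => Ω.getD a []).flatten

lemma WM.exw {Ω : List (List (Fin n))} (h : ∀ ω ∈ Ω, WM E M ω) (u : List ℕ) : WM E M (exw Ω u) := by
  induction u with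
  | nil => exact WM.nil
  | cons a u ih =>
    refine WM.append (ω := Ω.getD a []) ?_ ih
    by_cases ha : a < Ω.length
    · rw [List.getD_eq_getElem _ _ ha]; exact h _ (List.getElem_mem ha)
    · rw [List.getD_eq_default _ _ (by omega)]; exact WM.nil

/-- A step of a certificate. -/
inductive Step (n : ℕ) where
  | act (j : ℕ) (u : List ℕ)
  | refl (ω : List (Fin n)) (i : Fin n)
  | sum (ω : List (Fin n)) (i : Fin n) (ω' : List (Fin n)) (j : Fin n)

/-- One step of the checker. -/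
def next (AL : List (List ℤ)) (sl : Bool) (p : List (List (Fin n)) × List (List ℤ)) :
    Step n → List (List (Fin n)) × List (List ℤ)
  | .act j u => if j < p.2.length then (p.1, wordL AL (exw p.1 u) (p.2.getD j []) :: p.2) else p
  | .refl ω i => if wordL AL ω (AL.getD i []) ∈ p.2 ∧ (wordL AL ω (AL.getD i [])).map (-·) ∈ p.2
      then ((ω ++ i :: ω.reverse) :: p.1, p.2) else p
  | .sum ω i ω' j => if sl = true ∧ wordL AL ω (AL.getD i []) ∈ p.2 ∧
      wordL AL ω' (AL.getD j []) ∈ p.2 ∧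
      (wordL AL ω.reverse (wordL AL ω' (AL.getD j []))).getD i 0 = -1 ∧
      (wordL AL ω'.reverse (wordL AL ω (AL.getD i []))).getD j 0 = -1
      then (p.1, wordL AL (ω ++ i :: ω.reverse) (wordL AL ω' (AL.getD j [])) :: p.2) else p

lemma Tab.next (hT : Tab R AL) {sl : Bool} (hs : sl = true → L12 R)
    {p : List (List (Fin n)) × List (List ℤ)} (h : (∀ ω ∈ p.1, WM E M ω) ∧ ∀ v ∈ p.2, InX E M v)
    (s : Step n) : (∀ ω ∈ (next AL sl p s).1, WM E M ω) ∧ ∀ v ∈ (next AL sl p s).2, InX E M v := by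
  cases s with
  | act j u =>
    rw [Gen.next]
    split_ifs with hj
    · refine ⟨h.1, List.forall_mem_cons.mpr ⟨?_, h.2⟩⟩
      obtain ⟨g, hg, h1⟩ := WM.exw h.1 u
      obtain ⟨r, hr, h2⟩ := h.2 (p.2.getD j [])
        (by rw [List.getD_eq_getElem _ _ hj]; exact List.getElem_mem hj)
      exact ⟨_, hT.wp hr _, rep_mem hg h1 h2⟩
    · exact h
  | refl ω i =>
    rw [Gen.next]
    split_ifs with hj
    · refine ⟨List.forall_mem_cons.mpr ⟨?_, h.1⟩, h.2⟩
      have hr := hT.wp (hT.sim i) ω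
      exact ⟨_, n_mem ((h.2 _ hj.1).mem hr) ((h.2 _ hj.2).mem hr.neg),
        wp_refl ω i ▸ E.rep_n _ one_ne_zero⟩
    · exact h
  | sum ω i ω' j =>
    rw [Gen.next]
    split_ifs with hj
    · refine ⟨h.1, List.forall_mem_cons.mpr ⟨?_, h.2⟩⟩
      have hr := hT.wp (hT.sim i) ω
      have hr' := hT.wp (hT.sim j) ω'
      refine ⟨_, hT.wp hr' _, ?_⟩
      rw [wp_refl]
      exact (hs hj.1).sum_mem ((hT.pair' _ _ _ _).trans hj.2.2.2.1)
        ((hT.pair' _ _ _ _).trans hj.2.2.2.2) ((h.2 _ hj.2.1).mem hr) ((h.2 _ hj.2.2.1).mem hr')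
    · exact h

/-- The roots found by a certificate. -/
def run (AL : List (List ℤ)) (sl : Bool) (ω : List (Fin n)) (S : List (List ℤ))
    (L : List (Step n)) : List (List ℤ) := (L.foldl (next AL sl) ([ω, ω.reverse], S)).2

lemma Tab.run (hT : Tab R AL) {sl : Bool} (hs : sl = true → L12 R) {ω : List (Fin n)}
    (hω : WM E M ω) {S : List (List ℤ)} (hS : ∀ v ∈ S, InX E M v) (L : List (Step n)) :
    ∀ v ∈ run AL sl ω S L, InX E M v := by
  have : ∀ p : List (List (Fin n)) × List (List ℤ),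
      ((∀ ω ∈ p.1, WM E M ω) ∧ ∀ v ∈ p.2, InX E M v) →
      ∀ v ∈ (L.foldl (Gen.next AL sl) p).2, InX E M v := by
    induction L with
    | nil => exact fun p h => h.2
    | cons s L ih => exact fun p h => ih _ (hT.next hs h s)
  exact this _ ⟨by simpa using ⟨hω, hω.reverse⟩, hS⟩

lemma Gp_le (h1 : ∀ i t, E.x (R.sim i) t ∈ M) (h2 : ∀ i t, E.x (R.neg (R.sim i)) t ∈ M) :
    E.Gp ≤ M := by
  refine E.XS_le.mpr fun r _ t => ?_
  obtain ⟨w, hw, i, rfl⟩ := R.exists_W_sim r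
  obtain ⟨L, -, rfl⟩ := R.exists_list_of_mem_WJ hw
  refine rep_mem (list_prod_mem fun g hg => ?_) (E.rep_list L) (h1 i) t
  obtain ⟨j, -, rfl⟩ := List.mem_map.mp hg
  exact n_mem (h1 j) (h2 j)

/-- The list contains all simple roots and their negatives. -/
def full (n : ℕ) (AL S : List (List ℤ)) : Prop :=
  ∀ i : Fin n, AL.getD i [] ∈ S ∧ (AL.getD i []).map (-·) ∈ S

instance decFull (S : List (List ℤ)) : Decidable (full n AL S) := by unfold full; infer_instance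

lemma Tab.Gp_le (hT : Tab R AL) {sl : Bool} (hs : sl = true → L12 R) {ω : List (Fin n)}
    (hω : WM E M ω) {S : List (List ℤ)} (hS : ∀ v ∈ S, InX E M v) (L : List (Step n))
    (h : full n AL (Gen.run AL sl ω S L)) : E.Gp ≤ M :=
  Gen.Gp_le (fun i => (hT.run hs hω hS L _ (h i).1).mem (hT.sim i))
    fun i => (hT.run hs hω hS L _ (h i).2).mem (hT.sim i).neg

/-! ### The torus -/

/-- The pairing of a coweight with a root. -/
def dot (n : ℕ) (lam v : List ℤ) : ℤ := ∑ i : Fin n, lam.getD i 0 * v.getD i 0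

lemma sc_tor (h3 : E.R3) (k : Kˣ) (lam : Fin n → ℤ) {r : ι} {v : List ℤ} (hr : Is R r v) {e : ℤ}
    (he : ∑ i, lam i * v.getD i 0 = e) :
    Sc E (Elts.tor h3 fun i => k ^ lam i) r (k ^ e : Kˣ) := fun t => by
  rw [Elts.tor_conj_x, hr.2, ← he]
  simp only [← zpow_mul, toF]
  congr 3
  exact (map_sum (zpowersHom Kˣ k).toAdditiveRight _ _).symm

lemma tor_mem_H (h3 : E.R3) (c : Fin n → Kˣ) : Elts.tor h3 c ∈ E.H := by
  rw [← Elts.tor_range h3]; exact ⟨c, rfl⟩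

lemma split_mem [Fintype K] (h3 : E.R3) {c : Fin n → Kˣ} {y : G} (hc : Commute (Elts.tor h3 c) y)
    {j : ℕ} (hy : y ^ Fintype.card K ^ j = 1) (hM : Elts.tor h3 c * y ∈ M) :
    Elts.tor h3 c ∈ M ∧ y ∈ M := by
  classical
  refine mem_of_coprime hc (m := Fintype.card K - 1) ?_ hy (Nat.Coprime.pow_right _ ?_) hM
  · rw [← map_pow, show c ^ (Fintype.card K - 1) = 1 from ?_, map_one]
    funext i
    rw [Pi.pow_apply, Pi.one_apply, ← Fintype.card_units, pow_card_eq_one]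
  · rw [Nat.coprime_self_sub_left Fintype.card_pos]; simp

lemma line_card [Fintype K] {y : K → G} (hy : ∀ a b, y a * y b = y (a + b)) (t : K) :
    y t ^ Fintype.card K ^ 1 = 1 := by
  rw [pow_one, line_nsmul hy, FiniteField.cast_card_eq_zero, zero_mul, line_zero hy]

lemma sc_inv_conj {g m : G} {w : Equiv.Perm ι} (hm : E.Rep m w) {r : ι} {c : K}
    (h : Sc E g (w r) c) : Sc E (m⁻¹ * g * m) r c := by
  simpa using sc_conj hm.inv h

lemma sc_conj' {g m : G} {w : Equiv.Perm ι} (hm : E.Rep m w) {r : ι} {c : K}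
    (h : Sc E g (w⁻¹ r) c) : Sc E (m * g * m⁻¹) r c := by
  simpa using sc_conj hm h

section Untw

variable [Fintype K] (hT : Tab R AL) (h3 : E.R3) {k : Kˣ} (hk : ∀ t : Kˣ, ∃ j : ℕ, t = k ^ j)
  {ω : List (Fin n)} {lam : List ℤ}
include hT hk

lemma second {i : Fin n} {m : ℕ} (hω : WM E M ω)
    (c1 : dot n lam (wordL AL (List.replicate m ω).flatten (AL.getD i [])) ∈ [1, -1, 2, -2])
    (hh : (Elts.tor h3 fun i => k ^ lam.getD i 0) ∈ M) (hx : E.x (R.sim i) 1 ∈ M) :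
    InX E M (AL.getD i []) := by
  obtain ⟨g, hg, hr⟩ := hω.rep m
  have h1 := sc_inv_conj hr (sc_tor h3 k (fun i => lam.getD i 0) (hT.wp (hT.sim i) _) rfl)
  refine ⟨_, hT.sim i, line_sq (E.x_add _) fun t ht => ?_⟩
  obtain ⟨b, hb⟩ : ∃ b, dot n lam (wordL AL (List.replicate m ω).flatten (AL.getD i [])) * b = 2 := by
    simp only [List.mem_cons, List.not_mem_nil, or_false] at c1
    rcases c1 with e | e | e | e <;> rw [e]
    exacts [⟨2, rfl⟩, ⟨-2, rfl⟩, ⟨1, rfl⟩, ⟨-1, rfl⟩]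
  obtain ⟨j, hj⟩ := gen_zpow hk (c := 2) (fun t => by rw [hb]) t ht
  have := line_pow (mul_mem (mul_mem (inv_mem hg) hh) hg) h1 hx j
  rwa [mul_one, ← dot, ← hj, zpow_ofNat] at this

lemma split_tor {i : Fin n} (c0 : dot n lam (AL.getD i []) = 0)
    (h : (Elts.tor h3 fun i => k ^ lam.getD i 0) * E.x (R.sim i) 1 ∈ M) :
    (Elts.tor h3 fun i => k ^ lam.getD i 0) ∈ M ∧ E.x (R.sim i) 1 ∈ M :=
  split_mem h3 (Sc.commute (by simpa using sc_tor h3 k (fun i => lam.getD i 0) (hT.sim i) c0) 1).symm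
    (line_card (E.x_add _) 1) h

end Untw

theorem Tab.gen_one [Finite K] (hT : Tab R AL) (h3 : E.R3) (hG : E.Gp = ⊤) {sl : Bool}
    (hs : sl = true → L12 R) (ω : List (Fin n)) (i : Fin n) (lam : List ℤ) (m : ℕ) (L : List (Step n))
    (c0 : dot n lam (AL.getD i []) = 0)
    (c1 : dot n lam (wordL AL (List.replicate m ω).flatten (AL.getD i [])) ∈ [1, -1, 2, -2])
    (c2 : full n AL (Gen.run AL sl ω [AL.getD i []] L)) :
    ∃ a b : G, Subgroup.closure ({a, b} : Set G) = ⊤ := by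
  have := Fintype.ofFinite K
  obtain ⟨k, hk⟩ := exists_gen K
  obtain ⟨g, hg⟩ := E.exists_rep_of_mem_W (wp_mem (R := R) ω)
  refine ⟨(Elts.tor h3 fun i => k ^ lam.getD i 0) * E.x (R.sim i) 1, g, ?_⟩
  obtain ⟨h1, h2⟩ := split_tor hT h3 hk c0 (Subgroup.subset_closure (Set.mem_insert _ {g}))
  generalize hM : Subgroup.closure (G := G) _ = M at h1 h2 ⊢
  have hω : WM E M ω := ⟨g, hM ▸ Subgroup.subset_closure (Set.mem_insert_of_mem _ rfl), hg⟩
  rw [eq_top_iff, ← hG]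
  exact hT.Gp_le hs hω (by simpa using second hT h3 hk hω c1 h1 h2) L c2

theorem Tab.gen_two [Finite K] (hK : ∃ x : K, x ≠ 0 ∧ x ≠ 1) (hT : Tab R AL) (h3 : E.R3)
    (hG : E.Gp = ⊤) (ω : List (Fin n)) (i' i : Fin n) (lam : List ℤ) (m : ℕ) (L : List (Step n))
    (c0 : dot n lam (AL.getD i []) = 0)
    (c1 : dot n lam (wordL AL (List.replicate m ω).flatten (AL.getD i [])) ∈ [1, -1, 2, -2])
    (c3 : dot n lam (AL.getD i' []) ∈ [1, -1])
    (c4 : dot n lam (wordL AL ω.reverse (AL.getD i' [])) ∈ [1, -1])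
    (c2 : full n AL (Gen.run AL false ω [AL.getD i' [], AL.getD i []] L)) :
    ∃ a b : G, Subgroup.closure ({a, b} : Set G) = ⊤ := by
  have := Fintype.ofFinite K
  obtain ⟨k, hk⟩ := exists_gen K
  have hk1 : ∀ e ∈ [(1 : ℤ), -1], ((k ^ e : Kˣ) : K) ≠ 1 := by
    have : k ≠ 1 := by
      rintro rfl
      obtain ⟨x, h0, h1⟩ := hK
      obtain ⟨j, hj⟩ := hk (Units.mk0 x h0)
      exact h1 (by simpa using congrArg Units.val hj)
    simpa using this
  obtain ⟨g, hg⟩ := E.exists_rep_of_mem_W (wp_mem (R := R) ω)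
  refine ⟨(Elts.tor h3 fun i => k ^ lam.getD i 0) * E.x (R.sim i) 1, E.x (R.sim i') 1 * g, ?_⟩
  obtain ⟨h1, h2⟩ := split_tor hT h3 hk c0
    (Subgroup.subset_closure (Set.mem_insert _ {E.x (R.sim i') 1 * g}))
  generalize hM : Subgroup.closure (G := G) _ = M at h1 h2 ⊢
  have hb : E.x (R.sim i') 1 * g ∈ M := hM ▸ Subgroup.subset_closure (Set.mem_insert_of_mem _ rfl)
  have h4 : ∀ t, E.x (R.sim i') t ∈ M := by
    refine line_all (E.x_add _) (Elts.H_comm h3 (tor_mem_H h3 _)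
      (E.conj_mem_H hg.mem_N (tor_mem_H h3 _))) (sc_tor h3 k _ (hT.sim i') rfl)
      (sc_conj' hg (wp_reverse (R := R) ω ▸ sc_tor h3 k _ (hT.wp (hT.sim i') ω.reverse) rfl))
      (fun t ht => ?_) (hk1 _ c3) (hk1 _ c4) h1 ?_
    · have := gen_zpow hk (a := dot n lam (AL.getD i' [])) (b := dot n lam (AL.getD i' [])) (c := 1)
        (fun t => by
          simp only [List.mem_cons, List.not_mem_nil, or_false] at c3
          rcases c3 with e | e <;> rw [e] <;> rfl) t ht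
      rwa [zpow_one] at this
    · convert mul_mem (mul_mem hb h1) (inv_mem hb) using 1
      group
  have hω : WM E M ω := ⟨g, (M.mul_mem_cancel_left (h4 1)).mp hb, hg⟩
  rw [eq_top_iff, ← hG]
  exact hT.Gp_le (by simp) hω
    (by simpa using ⟨⟨_, hT.sim i', h4⟩, second hT h3 hk hω c1 h1 h2⟩) L c2

/-! ### The field with two elements -/

section Two

variable (h2 : ∀ t : K, t = 0 ∨ t = 1)
include h2

lemma rep_two {g : G} {w : Equiv.Perm ι} (h : E.Rep g w) (r : ι) :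
    g * E.x r 1 * g⁻¹ = E.x (w r) 1 := by
  obtain ⟨d, hd, h1⟩ := h.conj_x r
  rw [h1, (h2 d).resolve_left hd, one_mul]

lemma inv_two (r : ι) : (E.x r 1)⁻¹ = E.x r 1 := by
  rw [← E.x_neg, (h2 (-1)).resolve_left (by simp)]

lemma mem_two {r : ι} (h : E.x r 1 ∈ M) (t : K) : E.x r t ∈ M := by
  rcases h2 t with rfl | rfl
  · rw [E.x_zero]; exact one_mem _
  · exact h

omit h2 in
lemma comm_mem {x v x' u : G} (h1 : Commute v x') (h2 : Commute v u) (h3 : Commute u x)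
    (ha : x * v ∈ M) (hb : x' * u ∈ M) : x * x' * x⁻¹ * x'⁻¹ ∈ M := by
  convert mul_mem (mul_mem (mul_mem ha hb) (inv_mem ha)) (inv_mem hb) using 1
  have e : x * v * (x' * u) * (x * v)⁻¹ * (x' * u)⁻¹ =
      x * (v * (x' * u) * v⁻¹) * x⁻¹ * u⁻¹ * x'⁻¹ := by group
  rw [e, (h1.mul_right h2).eq, mul_inv_cancel_right, mul_assoc _ x⁻¹ u⁻¹, ← h3.inv_inv.eq]
  group

variable [Finite ι]

theorem gen_D4 {R : RS ι (Fin 4)} {E : Elts R K G} (hF : E.Faith) (hG : E.Gp = ⊤)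
    (hT : Tab R alD4) : ∃ a b : G, Subgroup.closure ({a, b} : Set G) = ⊤ := by
  have hl : ∀ i, R.len (R.sim i) = R.len (R.sim 1) := by
    have a := R.A_symm 0 1
    have b := R.A_symm 2 1
    have c := R.A_symm 3 1
    simp only [hT.hA] at a b c
    simp [matF, alD4] at a b c
    intro i
    fin_cases i <;> simp <;> omega
  have hL : L12 R := L12.of_sim fun i j => by
    have := R.len_pos (R.sim 1)
    rw [hl, hl j]; omega
  obtain ⟨g, hg⟩ := E.exists_rep_of_mem_W (wp_mem (R := R) [0, 1, 2, 3])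
  refine ⟨E.x (R.sim 1) 1 * E.x (R.sim 2) 1, g, ?_⟩
  generalize hM : Subgroup.closure (G := G) _ = M
  have ha : E.x (R.sim 1) 1 * E.x (R.sim 2) 1 ∈ M :=
    hM ▸ Subgroup.subset_closure (Set.mem_insert _ _)
  have hb : g ∈ M := hM ▸ Subgroup.subset_closure (Set.mem_insert_of_mem _ rfl)
  have hω : WM E M [0, 1, 2, 3] := ⟨g, hb, hg⟩
  have h1 : InX E M (wordL alD4 ([1] : List (Fin 4)) (alD4.getD 2 [])) := by
    refine ⟨_, hT.wp (hT.sim 2) [1], mem_two h2 ?_⟩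
    have := hL.comm_two hF h2 ((hT.pair' [] [] 1 2).trans (by decide))
      ((hT.pair' [] [] 2 1).trans (by decide))
    rw [inv_two h2, inv_two h2, mul_assoc] at this
    exact (this ▸ mul_mem ha ha : E.x (R.refl _ _) 1 ∈ M)
  have h3 := (hT.run (sl := false) (by simp) hω (List.forall_mem_singleton.mpr h1) [.act 0 [1, 1]]
    _ (by decide : wordL alD4 ([3] : List (Fin 4)) (alD4.getD 3 []) ∈ _)).mem (hT.wp (hT.sim 3) [3]) 1
  have h4 : E.x (wp R [3, 2, 1, 0] (R.sim 2)) 1 * E.x (wp R [3, 2, 1, 0] (R.sim 1)) 1 ∈ M := by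
    have e : wp R [3, 2, 1, 0] = _ := wp_reverse [0, 1, 2, 3]
    rw [e, ← rep_two h2 hg.inv, ← rep_two h2 hg.inv, ← inv_two h2, ← inv_two h2 (R.sim 1)]
    convert mul_mem (mul_mem (inv_mem hb) (inv_mem ha)) hb using 1
    group
  have c := cone0 (i := 1) (fun j => (hl j).le) (by rw [R.len_W (wp_mem _), hl])
    ((hT.pair' [3, 2, 1, 0] [3] 1 3).trans (by decide))
  have h5 := comm_mem (Commute.one_left _) (Commute.one_left _) (commute_of_cone c.1 c.2 1 1)
    (by rwa [mul_one]) h4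
  rw [hL.comm_two hF h2 ((hT.pair' _ _ _ _).trans (by decide))
    ((hT.pair' _ _ _ _).trans (by decide)), ← wp_refl,
    (hT.wp (hT.wp (hT.sim 2) _) _).unique (by convert hT.sim 1 using 1; decide)] at h5
  rw [eq_top_iff, ← hG]
  exact hT.Gp_le (sl := false) (by simp) hω (S := [alD4.getD 2 [], alD4.getD 1 []])
    (by simpa using ⟨⟨_, hT.sim 2, mem_two h2 ((M.mul_mem_cancel_left h5).mp ha)⟩,
      ⟨_, hT.sim 1, mem_two h2 h5⟩⟩)
    [.act 1 [0, 0, 0], .refl [] 1, .act 2 [2], .act 2 [1, 0], .act 4 [2, 0], .act 4 [1, 1, 1],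
      .act 5 [2, 2, 0]] (by decide +kernel)

theorem gen_F4 {R : RS ι (Fin 4)} {E : Elts R K G} (hF : E.Faith) (hG : E.Gp = ⊤)
    (hT : Tab R alF4) : ∃ a b : G, Subgroup.closure ({a, b} : Set G) = ⊤ := by
  have hl : ∀ i, R.len (R.sim i) = ![1, 1, 2, 2] i * R.len (R.sim 1) := by
    have a := R.A_symm 0 1
    have b := R.A_symm 2 1
    have c := R.A_symm 3 2
    simp only [hT.hA] at a b c
    simp [matF, alF4] at a b c
    intro i
    fin_cases i <;> simp <;> omega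
  have hp := R.len_pos (R.sim 1)
  have hL : L12 R := L12.of_sim fun i j => by
    rw [hl, hl j]; fin_cases i <;> fin_cases j <;> simp <;> omega
  obtain ⟨g, hg⟩ := E.exists_rep_of_mem_W (wp_mem (R := R) [2, 3, 0, 1])
  refine ⟨E.x (R.sim 3) 1 * E.x (R.sim 1) 1, g, ?_⟩
  generalize hM : Subgroup.closure (G := G) _ = M
  have ha : E.x (R.sim 3) 1 * E.x (R.sim 1) 1 ∈ M :=
    hM ▸ Subgroup.subset_closure (Set.mem_insert _ _)
  have hb : g ∈ M := hM ▸ Subgroup.subset_closure (Set.mem_insert_of_mem _ rfl)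
  have hω : WM E M [2, 3, 0, 1] := ⟨g, hb, hg⟩
  have h4 : E.x (wp R [2, 3, 0, 1] (R.sim 3)) 1 * E.x (wp R [2, 3, 0, 1] (R.sim 1)) 1 ∈ M := by
    rw [← rep_two h2 hg, ← rep_two h2 hg]
    convert mul_mem (mul_mem hb ha) (inv_mem hb) using 1
    group
  have c1 := hL.cone1 ((hT.pair' [] [2, 3, 0, 1] 1 3).ge.trans' (by decide))
  have c2 := hL.cone1 ((hT.pair' [] [2, 3, 0, 1] 1 1).ge.trans' (by decide))
  have c3 := hL.cone1 ((hT.pair' [2, 3, 0, 1] [] 1 3).ge.trans' (by decide))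
  have h5 := comm_mem (commute_of_cone c1.1 c1.2 1 1) (commute_of_cone c2.1 c2.2 1 1)
    (commute_of_cone c3.1 c3.2 1 1) ha h4
  have h6 := hL.comm_two hF h2 ((hT.pair' [] [2, 3, 0, 1] 3 3).trans (by decide))
    ((hT.pair' [2, 3, 0, 1] [] 3 3).trans (by decide))
  rw [← wp_refl] at h6
  have h7 := (hT.run (sl := false) (by simp) hω (List.forall_mem_singleton.mpr
    ⟨_, hT.wp (hT.wp (hT.sim 3) _) _, mem_two h2 (h6 ▸ h5)⟩)
    [.act 0 [0, 0, 0, 0, 0, 0], .refl [] 2, .act 1 [1, 1, 0, 1, 0]]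
    _ (by decide +kernel : alF4.getD 3 [] ∈ _)).mem (hT.sim 3) 1
  rw [eq_top_iff, ← hG]
  exact hT.Gp_le (sl := false) (by simp) hω (S := [alF4.getD 3 [], alF4.getD 1 []])
    (by simpa using ⟨⟨_, hT.sim 3, mem_two h2 h7⟩,
      ⟨_, hT.sim 1, mem_two h2 ((M.mul_mem_cancel_left h7).mp ha)⟩⟩)
    [.act 1 [0, 0, 0, 0, 0, 0], .refl [] 1, .act 2 [2, 2, 0, 2], .act 2 [0, 2],
      .act 4 [2, 2, 0, 2, 0], .act 4 [2, 0, 2, 0, 1], .act 5 [1, 0, 2, 0, 2, 0, 1]]
    (by decide +kernel)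

end Two

end H37.Gen
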