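import Mathlib
import Cfsg.Agent.Base
import Cfsg.Agent.Lib.Stein.EichU
import Cfsg.Agent.Lib.Lang.Gen2

/-! Generation of groups with Eichler transformations: closure lemmas for root subgroups. -/

set_option autoImplicit false

open scoped commutatorElement

namespace H37.GenCl

open H63.St H63.St.Eich H37.Gen

section Span

variable {K : Type*} [Field K]

/-- The powers of `α` span the additive group. -/
def Spans (α : K) : Prop := ∀ A : AddSubgroup K, (∀ j : ℕ, α ^ j ∈ A) → A = ⊤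

lemma Spans.all {α : K} (h : Spans α) (A : AddSubgroup K) (hA : ∀ t ∈ A, α * t ∈ A) {c : K}
    (hc : c ∈ A) (h0 : c ≠ 0) (t : K) : t ∈ A := by
  have := h (A.comap (AddMonoidHom.mulRight c)) fun j => by
    induction j with
    | zero => simpa using hc
    | succ j ih =>
      have := hA _ ih
      simpa [pow_succ', mul_assoc] using this
  have h1 : t * c⁻¹ ∈ A.comap (AddMonoidHom.mulRight c) := this ▸ AddSubgroup.mem_top _
  simpa [h0] using h1

lemma spans_of_gen {α : K} (h : ∀ t, t ≠ 0 → ∃ j : ℕ, t = α ^ j) : Spans α := fun A hA => by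
  refine eq_top_iff.2 fun t _ => ?_
  by_cases ht : t = 0
  · rw [ht]; exact A.zero_mem
  · obtain ⟨j, rfl⟩ := h t ht; exact hA j

lemma mem_of_sq [Finite K] (A : AddSubgroup K) (h : ∀ t, t ^ 2 ∈ A) (t : K) : t ∈ A := by
  by_cases h2 : ringChar K = 2
  · obtain ⟨s, rfl⟩ := FiniteField.isSquare_of_char_two h2 t
    rw [← sq]; exact h s
  · have h3 : (2 : K) ≠ 0 := Ring.two_ne_zero h2
    have : t = ((t + 1) / 2) ^ 2 - ((t - 1) / 2) ^ 2 := by field_simp; ring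
    rw [this]
    exact A.sub_mem (h _) (h _)

lemma spans_sq [Finite K] {α : K} (h : ∀ t, t ≠ 0 → ∃ j : ℕ, t = α ^ j) : Spans (α ^ 2) :=
  fun A hA => eq_top_iff.2 fun t _ => mem_of_sq A (fun s => by
    by_cases hs : s = 0
    · rw [hs, zero_pow two_ne_zero]; exact A.zero_mem
    · obtain ⟨j, rfl⟩ := h s hs
      rw [← pow_mul, mul_comm, pow_mul]; exact hA j) t

lemma spans_of_subfield [Finite K] {α : K} (h : ∀ S : Subfield K, α ∈ S → S = ⊤) : Spans α :=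
  fun A hA => by
    have := Fintype.ofFinite K
    let S : Subfield K :=
      { Subring.closure {α} with
        inv_mem' := fun x hx => by
          by_cases h0 : x = 0
          · rw [h0, inv_zero]; exact (Subring.closure {α}).zero_mem
          · have h2 : 1 < Fintype.card K := Fintype.one_lt_card
            have : x⁻¹ = x ^ (Fintype.card K - 2) := inv_eq_of_mul_eq_one_right (by
              rw [← pow_succ', show Fintype.card K - 2 + 1 = Fintype.card K - 1 by omega,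
                FiniteField.pow_card_sub_one_eq_one x h0])
            exact this ▸ (Subring.closure {α}).pow_mem hx _ }
    refine eq_top_iff.2 fun x _ => ?_
    have hx : x ∈ S := h S (Subring.subset_closure rfl) ▸ Subfield.mem_top x
    refine (AddSubgroup.closure_le A).2 ?_ (Subring.mem_closure_iff.1 hx)
    intro y hy
    obtain ⟨j, rfl⟩ := Submonoid.mem_closure_singleton.1 hy
    exact hA j

lemma subfield_top [Finite K] (S : Subfield K) (h : Nat.card K < Nat.card S ^ 2) : S = ⊤ := by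
  have := Fintype.ofFinite K
  classical
  have hc : Fintype.card K = Fintype.card S ^ Module.finrank S K := Module.card_eq_pow_finrank
  rw [Nat.card_eq_fintype_card, Nat.card_eq_fintype_card] at h
  have h7 : Module.finrank S K = 1 := by
    have hpos : 0 < Module.finrank S K := Module.finrank_pos
    by_contra h1
    exact absurd (hc ▸ Nat.pow_le_pow_right Fintype.card_pos (by omega)) (not_le.2 h)
  rw [h7, pow_one] at hc
  have h8 : Function.Bijective (Subtype.val : S → K) :=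
    (Fintype.bijective_iff_injective_and_card _).mpr ⟨Subtype.val_injective, hc.symm⟩
  refine eq_top_iff.mpr fun x _ => ?_
  obtain ⟨y, rfl⟩ := h8.2 x
  exact y.2

lemma pow_card_subfield [Finite K] (S : Subfield K) {α : K} (h : α ∈ S) (h0 : α ≠ 0) :
    α ^ (Nat.card S - 1) = 1 := by
  have := Fintype.ofFinite S
  have := FiniteField.pow_card_sub_one_eq_one (⟨α, h⟩ : S) fun e => h0 (congrArg Subtype.val e)
  rw [Nat.card_eq_fintype_card]
  exact congrArg Subtype.val this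

lemma spans_of_order [Finite K] {α : K} (h0 : α ≠ 0)
    (h : ∀ s, 2 ≤ s → s ^ 2 ≤ Nat.card K → α ^ (s - 1) ≠ 1) : Spans α :=
  spans_of_subfield fun S hS => subfield_top S (by
    by_contra h1
    exact h _ Finite.one_lt_card (not_lt.1 h1) (pow_card_subfield S hS h0))

lemma prim_dvd [Finite K] {μ : K} (h0 : μ ≠ 0) (h : ∀ t, t ≠ 0 → ∃ j : ℕ, t = μ ^ j) {k : ℕ}
    (hk : μ ^ k = 1) : Nat.card K - 1 ∣ k := by
  have h1 : orderOf (Units.mk0 μ h0) = Nat.card Kˣ := orderOf_eq_card_of_forall_mem_powers fun t => by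
    obtain ⟨j, hj⟩ := h t t.ne_zero
    exact ⟨j, Units.ext (by simpa using hj.symm)⟩
  rw [← Nat.card_units, ← h1]
  exact orderOf_dvd_of_pow_eq_one (Units.ext (by simpa using hk))

lemma exists_prim (K : Type*) [Field K] [Finite K] :
    ∃ μ : K, μ ≠ 0 ∧ ∀ t, t ≠ 0 → ∃ j : ℕ, t = μ ^ j := by
  obtain ⟨k, hk⟩ := exists_gen K
  refine ⟨k, k.ne_zero, fun t ht => ?_⟩
  obtain ⟨j, hj⟩ := hk (Units.mk0 t ht)
  exact ⟨j, by simpa using congrArg Units.val hj⟩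

lemma prim_map {μ : K} (h : ∀ t, t ≠ 0 → ∃ j : ℕ, t = μ ^ j) {σ : K →+* K} (hσ : ∀ x, σ (σ x) = x)
    (t : K) (ht : t ≠ 0) : ∃ j : ℕ, t = σ μ ^ j := by
  obtain ⟨j, hj⟩ := h (σ t) (by simpa using ht)
  exact ⟨j, by rw [← map_pow, ← hj, hσ]⟩

lemma prim_ne_one {μ : K} (h : ∀ t, t ≠ 0 → ∃ j : ℕ, t = μ ^ j) (h2 : ∃ t : K, t ≠ 0 ∧ t ≠ 1) :
    μ ≠ 1 := by
  rintro rfl
  obtain ⟨t, h0, h1⟩ := h2
  obtain ⟨j, hj⟩ := h t h0
  exact h1 (by simpa using hj)

end Span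

section Grp

variable {G : Type*} [Group G] {K : Type*} [Field K] {M : Subgroup G}

/-- Steinberg's commutator trick for a family of cosets `R t`. -/
lemma trick (R : K → G → Prop) (hmul : ∀ {s t x y}, R s x → R t y → R (s + t) (x * y))
    (hinv : ∀ {s x}, R s x → R (-s) x⁻¹) {h h' x : G} (hh : Commute h h') {α β : K}
    (h1 : ∀ {s x}, R s x → R (α * s) (h * x * h⁻¹)) (h2 : ∀ {s x}, R s x → R (β * s) (h' * x * h'⁻¹))
    (hα : Spans α) (hα1 : α ≠ 1) (hβ : β ≠ 1) (hx : R 1 x) (hM : h ∈ M)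
    (hb : x * h' * x⁻¹ ∈ M) (t : K) : ∃ y ∈ M, R t y := by
  let A : AddSubgroup K :=
    { carrier := {t | ∃ y ∈ M, R t y}
      add_mem' := by
        rintro s t ⟨x, hx, h⟩ ⟨y, hy, h'⟩
        exact ⟨_, mul_mem hx hy, hmul h h'⟩
      zero_mem' := ⟨_, one_mem _, by simpa using hmul hx (hinv hx)⟩
      neg_mem' := by
        rintro s ⟨x, hx, h⟩
        exact ⟨_, inv_mem hx, hinv h⟩ }
  refine hα.all A ?_ (c := (α - 1) * (1 - β)) ?_
    (mul_ne_zero (sub_ne_zero.2 hα1) (sub_ne_zero.2 hβ.symm)) t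
  · rintro s ⟨y, hy, h⟩
    exact ⟨_, mul_mem (mul_mem hM hy) (inv_mem hM), h1 h⟩
  · refine ⟨h * (x * h' * x⁻¹) * h⁻¹ * (x * h' * x⁻¹)⁻¹,
      mul_mem (mul_mem (mul_mem hM hb) (inv_mem hM)) (inv_mem hb), ?_⟩
    have e1 : h * (x * h' * x⁻¹) * h⁻¹ * (x * h' * x⁻¹)⁻¹ =
        (h * x * h⁻¹) * ((h * h' * h⁻¹) * ((h * x * h⁻¹)⁻¹ * x) * h'⁻¹) * x⁻¹ := by group
    rw [e1, hh.eq, mul_inv_cancel_right]
    convert hmul (hmul (h1 hx) (h2 (hmul (hinv (h1 hx)) hx))) (hinv hx) using 1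
    ring

lemma cube_eq_one {X Y : G} (hX : X * X = 1) (hY : Y * Y = 1)
    (h : X * Y * X * X * (X * Y * X)⁻¹ = Y) : (Y * X) ^ 3 = 1 := by
  have e1 : X⁻¹ = X := inv_eq_of_mul_eq_one_left hX
  have e2 : Y⁻¹ = Y := inv_eq_of_mul_eq_one_left hY
  simp only [mul_inv_rev, e1, e2] at h
  have h3 : X * Y * X * Y * X = Y := by
    have : X * Y * X * X * (X * (Y * X)) = X * Y * (X * X) * X * Y * X := by simp only [mul_assoc]
    rw [this, hX, mul_one] at h
    exact h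
  calc (Y * X) ^ 3 = Y * (X * Y * X * Y * X) := by simp only [pow_succ, pow_zero, one_mul, mul_assoc]
    _ = 1 := by rw [h3, hY]

lemma two_gen_map {G' : Type*} [Group G'] (φ : G →* G') (hφ : Function.Surjective φ)
    (h : ∃ a b : G, Subgroup.closure {a, b} = ⊤) : ∃ a b : G', Subgroup.closure {a, b} = ⊤ := by
  obtain ⟨a, b, h⟩ := h
  refine ⟨φ a, φ b, ?_⟩
  rw [← Set.image_pair, ← MonoidHom.map_closure, h, ← MonoidHom.range_eq_map,
    MonoidHom.range_eq_top.2 hφ]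

lemma two_gen_of (a b : G) (h : ∀ M : Subgroup G, a ∈ M → b ∈ M → M = ⊤) :
    ∃ a b : G, Subgroup.closure {a, b} = ⊤ :=
  ⟨a, b, h _ (Subgroup.subset_closure (by simp)) (Subgroup.subset_closure (by simp))⟩

end Grp

variable {m : ℕ} {K V G : Type*} [Field K] [AddCommGroup V] [Module K V] [Group G]
  {E : Eich m K V G} {M : Subgroup G}

lemma comm_mem {x y : G} (hx : x ∈ M) (hy : y ∈ M) : ⁅x, y⁆ ∈ M :=
  mul_mem (mul_mem (mul_mem hx hy) (inv_mem hx)) (inv_mem hy)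

lemma L_conj {g : G} {f : J m → K} {τ : Equiv.Perm (J m)} (h : E.Mono g f τ) (hg : g ∈ M)
    {a b : J m} (h1 : In a b) (hL : E.L a b ≤ M) : E.L (τ a) (τ b) ≤ M := by
  rintro _ ⟨t, rfl⟩
  have h0 : E.σ (f a) * f b ≠ 0 := mul_ne_zero (E.σ_ne (h.ne a)) (h.ne b)
  have := h.conj_xl h1 ((E.σ (f a) * f b)⁻¹ * t)
  rw [mul_inv_cancel_left₀ h0] at this
  rw [← this]
  exact mul_mem (mul_mem hg (hL (E.xl_mem _ _ _))) (inv_mem hg)

lemma S_conj {g : G} {f : J m → K} {τ : Equiv.Perm (J m)} (h : E.Mono g f τ) (hg : g ∈ M)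
    {a : J m} (hS : E.S a ≤ M) : E.S (τ a) ≤ M := fun x hx => by
  have := mul_mem (mul_mem hg (hS (by simpa using h.inv.conj_S hx))) (inv_mem hg)
  simpa [mul_assoc] using this

lemma L_elt {a b c : J m} (h1 : In a b) (h2 : In a c) (h3 : In b c) (hL : E.L a b ≤ M) {u : K}
    (hu : u ≠ 0) (hx : E.xl b.rev c u ∈ M) : E.L a c ≤ M := by
  rintro _ ⟨t, rfl⟩
  have := E.κ_ne b
  have := E.ε_ne
  have e := E.c120 h1 h2 h3 ((E.ε * E.κ b * u)⁻¹ * t) u
  rw [show E.ε * E.κ b * ((E.ε * E.κ b * u)⁻¹ * t) * u = t by field_simp] at e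
  rw [← e]
  exact comm_mem (hL (E.xl_mem _ _ _)) hx

lemma L_trans {a b c : J m} (h1 : In a b) (h2 : In a c) (h3 : In b c) (hL : E.L a b.rev ≤ M)
    (hL' : E.L b c.rev ≤ M) : E.L a c.rev ≤ M :=
  L_elt h1.rev h2.rev h3.rev.rev' hL one_ne_zero (by rw [Fin.rev_rev]; exact hL' (E.xl_mem _ _ _))

/-- The positive indices. -/
def p (m i : ℕ) : J m := ⟨min i m, by omega⟩

lemma p_val {i : ℕ} (h : i ≤ m) : (p m i : ℕ) = i := min_eq_left h

lemma in_p {i j : ℕ} (hi : i ≤ m) (hj : j ≤ m) (h : i ≠ j) : In (p m i) (p m j) := by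
  rw [In.iff, p_val hi, p_val hj]; omega

lemma exists_p {a : J m} {s : ℕ} (hs : s ≤ m + 1) (h : a.val < s ∨ a.rev.val < s) :
    ∃ i < s, a = p m i ∨ a = (p m i).rev := by
  rcases h with h | h
  · exact ⟨a, h, Or.inl (Fin.ext (p_val (by omega)).symm)⟩
  · exact ⟨a.rev, h, Or.inr (by rw [← Fin.rev_eq_iff]; exact Fin.ext (p_val (by omega)).symm)⟩

lemma all_p (a : J m) : a.val < m + 1 ∨ a.rev.val < m + 1 := by
  rw [Fin.val_rev]; omega

variable (E) in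
/-- A monomial element acting as a negative cycle on the first `s` coordinates. -/
def Cyc (n : G) (f : J m → K) (τ : Equiv.Perm (J m)) (s : ℕ) : Prop :=
  E.Mono n f τ ∧ (∀ i, i + 1 < s → τ (p m i) = p m (i + 1)) ∧ τ (p m (s - 1)) = (p m 0).rev

lemma mono_pow {n : G} {f : J m → K} {τ : Equiv.Perm (J m)} (h : E.Mono n f τ) (k : ℕ) :
    ∃ f', E.Mono (n ^ k) f' (τ ^ k) := by
  induction k with
  | zero => exact ⟨_, by simpa using E.mono_one⟩
  | succ k ih => obtain ⟨f', h'⟩ := ih; exact ⟨_, by rw [pow_succ, pow_succ]; exact h'.mul h⟩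

namespace Cyc

variable {n : G} {f : J m → K} {τ : Equiv.Perm (J m)} {s : ℕ} (h : Cyc E n f τ s)
include h

lemma q_eq {i : ℕ} (hi : i < s) : (τ ^ i) (p m 0) = p m i := by
  induction i with
  | zero => rfl
  | succ i ih => rw [pow_succ', Equiv.Perm.mul_apply, ih (by omega), h.2.1 i hi]

lemma q_add (hs : 1 ≤ s) (k : ℕ) : (τ ^ (k + s)) (p m 0) = ((τ ^ k) (p m 0)).rev := by
  obtain ⟨f', h'⟩ := mono_pow h.1 k
  obtain ⟨s, rfl⟩ : ∃ t, s = t + 1 := ⟨s - 1, by omega⟩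
  rw [pow_add, Equiv.Perm.mul_apply, pow_succ', Equiv.Perm.mul_apply, h.q_eq (by omega), ← h'.rev]
  exact congrArg _ h.2.2

lemma exists_q (hs : s ≤ m + 1) {a : J m} (ha : a.val < s ∨ a.rev.val < s) :
    ∃ k < 2 * s, a = (τ ^ k) (p m 0) := by
  obtain ⟨i, hi, rfl | rfl⟩ := exists_p hs ha
  · exact ⟨i, by omega, (h.q_eq hi).symm⟩
  · exact ⟨i + s, by omega, by rw [h.q_add (by omega), h.q_eq hi]⟩

lemma S_le (hs : s ≤ m + 1) (hn : n ∈ M) (hS : E.S (p m 0) ≤ M) {a : J m}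
    (ha : a.val < s ∨ a.rev.val < s) : E.S a ≤ M := by
  obtain ⟨k, -, rfl⟩ := h.exists_q hs ha
  obtain ⟨f', h'⟩ := mono_pow h.1 k
  exact S_conj h' (pow_mem hn k) hS

lemma L_le (hs : s ≤ m + 1) (h2 : 2 ≤ s) (hn : n ∈ M) (hL : E.L (p m 0) (p m 1).rev ≤ M)
    {a b : J m} (ha : a.val < s ∨ a.rev.val < s) (hb : b.val < s ∨ b.rev.val < s) (hab : In a b) :
    E.L a b ≤ M := by
  have k0 : ∀ k j, 1 ≤ j → j < s → E.L (p m 0) (p m j).rev ≤ M →
      E.L ((τ ^ k) (p m 0)) ((τ ^ (k + j)) (p m 0)).rev ≤ M := fun k j h1 hj hL => by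
    obtain ⟨f', h'⟩ := mono_pow h.1 k
    have := L_conj h' (pow_mem hn k) (in_p (by omega) (by omega) (by omega)).rev hL
    rwa [h'.rev, ← h.q_eq hj, ← Equiv.Perm.mul_apply, ← pow_add] at this
  have k1 : ∀ j, 1 ≤ j → j < s → E.L (p m 0) (p m j).rev ≤ M := fun j h1 hj => by
    induction j, h1 using Nat.le_induction with
    | base => exact hL
    | succ j h1 ih =>
      refine L_trans (in_p (by omega) (by omega) (by omega)) (in_p (by omega) (by omega) (by omega))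
        (in_p (i := j) (by omega) (by omega) (by omega)) (ih (by omega)) ?_
      have := k0 j 1 le_rfl (by omega) hL
      rwa [h.q_eq (by omega), h.q_eq hj] at this
  have k2 : ∀ k l, k < l → l < k + s → E.L ((τ ^ k) (p m 0)) ((τ ^ l) (p m 0)).rev ≤ M :=
    fun k l h1 h3 => by
      obtain ⟨j, rfl⟩ : ∃ j, l = k + j := ⟨l - k, by omega⟩
      exact k0 k j (by omega) (by omega) (k1 j (by omega) (by omega))
  have q2 : ∀ k, (τ ^ (k + s + s)) (p m 0) = (τ ^ k) (p m 0) := fun k => by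
    rw [h.q_add (by omega), h.q_add (by omega), Fin.rev_rev]
  obtain ⟨k, hk, rfl⟩ := h.exists_q hs ha
  obtain ⟨l, hl, e⟩ := h.exists_q hs (a := b.rev) (by rwa [Fin.rev_rev, or_comm])
  obtain rfl : b = ((τ ^ l) (p m 0)).rev := by rw [← e, Fin.rev_rev]
  have n1 : l ≠ k := by rintro rfl; exact hab.2 rfl
  have n2 : l ≠ k + s := by rintro rfl; exact hab.1 (by rw [h.q_add (by omega), Fin.rev_rev])
  have n3 : k ≠ l + s := by rintro rfl; exact hab.1 (by rw [h.q_add (by omega)])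
  rcases lt_or_gt_of_ne n1 with h1 | h1
  · rcases lt_or_gt_of_ne n3 with h3 | h3
    · have := k2 (l + s) (k + s) (by omega) (by omega)
      rwa [h.q_add (by omega), h.q_add (by omega), Fin.rev_rev, L_comm] at this
    · have := k2 k (l + s + s) (by omega) (by omega)
      rwa [q2] at this
  · rcases lt_or_gt_of_ne n2 with h3 | h3
    · exact k2 k l h1 h3
    · have := k2 (l + s) (k + s + s + s) (by omega) (by omega)
      rwa [h.q_add (by omega), h.q_add (by omega), q2, Fin.rev_rev, L_comm] at this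

end Cyc

variable (E) in
lemma exists_pos {k : ℕ} (hk : k ≤ m) : ∃ n f τ, E.Mono n f τ ∧ (∀ v ∈ E.V0, E.ρ n v = v) ∧
    (∀ i < k, τ (p m i) = p m (i + 1)) ∧ τ (p m k) = p m 0 ∧
    ∀ i, k < i → i ≤ m → τ (p m i) = p m i := by
  induction k with
  | zero => exact ⟨1, _, 1, E.mono_one, by simp, by simp, rfl, fun _ _ _ => rfl⟩
  | succ k ih =>
    obtain ⟨n, f, τ, h, h0, h1, h2, h3⟩ := ih (by omega)
    have i1 : In (p m k) (p m (k + 1)).rev := (in_p (by omega) hk (by omega)).rev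
    refine ⟨_, _, _, h.mul (E.mono_wL i1 one_ne_zero), fun v hv => ?_, fun i hi => ?_, ?_,
      fun i hi hm => ?_⟩
    · rw [ρ_mul, E.ρ_wL_of_perp i1 1 (hv _) (hv _) (hv _) (hv _), h0 v hv]
    · rcases Nat.lt_succ_iff_lt_or_eq.1 hi with hi | rfl
      · rw [Equiv.Perm.mul_apply, VC.τp_apply, VC.τ_in (in_p (by omega) (by omega) (by omega))
          (in_p (by omega) (by omega) (by omega)).rev', h1 i hi]
      · simp [h3 (i + 1) (by omega) hk]
    · have := VC.τ_right_rev (p m k) (p m (k + 1)).rev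
      rw [Fin.rev_rev] at this
      rw [Equiv.Perm.mul_apply, VC.τp_apply, this, h2]
    · rw [Equiv.Perm.mul_apply, VC.τp_apply, VC.τ_in (in_p (by omega) (by omega) (by omega))
          (in_p (by omega) (by omega) (by omega)).rev', h3 i (by omega) hm]

lemma exists_cycB {v : V} {c : K} (hv : E.P v c) (hc : c ≠ 0) : ∃ n f τ, Cyc E n f τ (m + 1) ∧
    ∀ x ∈ E.V0, E.ρ n x = x - (E.ε * c⁻¹ * E.B x v) • v := by
  obtain ⟨n, f, τ, h, h0, h1, h2, -⟩ := exists_pos E (le_refl m)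
  refine ⟨_, _, _, ⟨h.mul (hv.mono_mS hc (p m m)), fun i hi => ?_, ?_⟩, fun x hx => ?_⟩
  · have := in_p (m := m) (i := m) (j := i) le_rfl (by omega) (by omega)
    rw [Equiv.Perm.mul_apply, VC.τp_apply, VC.τ_in this this, h1 i (by omega)]
  · simp [h.rev, h2]
  · rw [ρ_mul, hv.ρ_mS hc _ (hx _) (hx _), h0 _ (E.V0.sub_mem hx (E.V0.smul_mem _ hv.1))]

variable (E) in
lemma exists_cycD (hm : 1 ≤ m) : ∃ n f τ, Cyc E n f τ m ∧ τ (p m m) = (p m m).rev ∧
    ∀ x ∈ E.V0, E.ρ n x = x := by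
  obtain ⟨n, f, τ, h, h0, h1, h2, h3⟩ := exists_pos E (k := m - 1) (by omega)
  have i1 : In (p m (m - 1)) (p m m) := in_p (by omega) le_rfl (by omega)
  refine ⟨_, _, _, ⟨h.mul ((E.mono_wL i1 one_ne_zero).mul (E.mono_wL i1.rev one_ne_zero)),
    fun i hi => ?_, ?_⟩, ?_, fun v hv => ?_⟩
  · have a1 := in_p (m := m) (i := m) (j := i) le_rfl (by omega) (by omega)
    have a2 := in_p (m := m) (i := m - 1) (j := i) (by omega) (by omega) (by omega)
    simp only [Equiv.Perm.mul_apply, VC.τp_apply, VC.τ_in a2 a1, VC.τ_in a2 a1.rev']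
    exact h1 i (by omega)
  · simp [h.rev, h2]
  · have := VC.τ_right_rev (p m (m - 1)) (p m m).rev
    rw [Fin.rev_rev] at this
    simp [this, h.rev, h3 m (by omega) le_rfl]
  · rw [ρ_mul, ρ_mul, E.ρ_wL_of_perp i1.rev 1 (hv _) (hv _) (hv _) (hv _),
      E.ρ_wL_of_perp i1 1 (hv _) (hv _) (hv _) (hv _), h0 v hv]

lemma top_of (hg : E.Gen) (hL : ∀ a b, In a b → E.L a b ≤ M) (hS : ∀ a, E.S a ≤ M) : M = ⊤ :=
  hg M fun _ _ _ => T_mem (fun a b => by
    by_cases h : In a b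
    · exact hL a b h
    · rintro _ ⟨t, rfl⟩; simp [xl, h]) hS

variable (E M) in
/-- The vector parts of the short root elements in `M`. -/
def W (a : J m) (v : V) : Prop := ∃ c, E.P v c ∧ E.T (E.e a) v c ∈ M

lemma W.add {a : J m} {v w : V} (h : W E M a v) (h' : W E M a w) : W E M a (v + w) := by
  obtain ⟨c, h1, h2⟩ := h
  obtain ⟨d, h3, h4⟩ := h'
  exact ⟨_, h1.add h3, T_mul (h1.adm a) (h3.adm a) ▸ mul_mem h2 h4⟩

lemma W.conj {g : G} {f : J m → K} {τ : Equiv.Perm (J m)} (h : E.Mono g f τ) (hg : g ∈ M)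
    {a : J m} {v : V} (hv : W E M a v) : W E M (τ a) (E.σ (f a) • E.ρ g v) := by
  obtain ⟨c, h1, h2⟩ := hv
  exact ⟨_, h.P h1 a, h.conj_T h1 a ▸ mul_mem (mul_mem hg h2) (inv_mem hg)⟩

lemma S_of_WZ {a : J m} (hW : ∀ v ∈ E.V0, W E M a v) (hZ : ∀ c, E.Λ 0 c → E.T (E.e a) 0 c ∈ M) :
    E.S a ≤ M := by
  rintro _ ⟨v, c, hv, rfl⟩
  obtain ⟨d, h1, h2⟩ := hW v hv.1
  have h0 := P.zero (Λ_sub hv.2 h1.2)
  have := mul_mem h2 (hZ _ h0.2)
  rw [T_mul (h1.adm a) (h0.adm a)] at this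
  simpa using this

lemma S_move (hL : ∀ a b, In a b → E.L a b ≤ M) {a b : J m} (hab : In a b) {v : V} {k : K}
    (hv : E.P v k) {g : G} (hc : ∀ t, Commute g (E.xl a b.rev t)) (hg : E.T (E.e b) v k * g ∈ M)
    (s : K) : E.T (E.e a) (s • -v) (s * E.σ s * (E.ε * E.σ k)) ∈ M := by
  have := E.κ_ne b.rev
  have := E.ε_ne
  have e := E.c135 hab.rev hv ((E.ε * E.κ b.rev)⁻¹ * s)
  rw [mul_inv_cancel_left₀ (by simp [*]), Fin.rev_rev] at e
  have h1 := comm_mem hg (hL _ _ hab.rev (E.xl_mem _ _ ((E.ε * E.κ b.rev)⁻¹ * s)))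
  have e2 : ∀ x y : G, Commute g y → ⁅x * g, y⁆ = ⁅x, y⁆ := fun x y h => by
    simp only [commutatorElement_def, mul_inv_rev]
    rw [mul_assoc x g y, h.eq]; group
  rw [e2 _ _ (hc _), e] at h1
  exact (M.mul_mem_cancel_right (hL _ _ hab (E.xl_mem _ _ _))).1 h1

lemma exists_in1 (hm : 1 ≤ m) (a : J m) : ∃ c, In a c := by
  obtain ⟨c, hc⟩ := J.exists_in [a] (by simpa using hm)
  exact ⟨c, hc a (by simp)⟩

lemma W.move (hm : 1 ≤ m) (hL : ∀ a b, In a b → E.L a b ≤ M) {b : J m} {v : V} (h : W E M b v)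
    (a : J m) (s : K) : W E M a (s • v) := by
  have k : ∀ {a b : J m} {v : V}, In a b → W E M b v → ∀ s : K, W E M a (s • v) := by
    rintro a b v hab ⟨c, h1, h2⟩ s
    have := S_move hL hab h1 (g := 1) (fun _ => Commute.one_left _) (by simpa using h2) (-s)
    exact ⟨_, by simpa using h1.neg.smul (-s), by simpa using this⟩
  by_cases hab : In a b
  · exact k hab h s
  · obtain ⟨c, hc⟩ := exists_in1 hm a
    have : In c b := by
      rcases VC.in_cases a b with rfl | rfl | e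
      exacts [hc.symm, hc.symm.rev, absurd e hab]
    simpa using k hc (k this h 1) s

lemma Z_of_L (hm : 1 ≤ m) (hL : ∀ a b, In a b → E.L a b ≤ M) (a : J m) (s : K) :
    E.T (E.e a) 0 (s - E.ε * E.σ s) ∈ M := by
  obtain ⟨b, hb⟩ := exists_in1 hm a
  have := E.κ_ne b.rev
  have := E.κ_ne b
  have := E.ε_ne
  have e := E.c90b hb 1 ((E.ε * E.κ b.rev)⁻¹ * s)
  have h1 := comm_mem (hL _ _ hb (E.xl_mem _ _ 1)) (hL _ _ hb.rev (E.xl_mem _ _ ((E.ε * E.κ b.rev)⁻¹ * s)))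
  rw [e] at h1
  convert h1 using 2
  simp only [map_mul, map_inv₀, σ_ε, σ_κ_rev, map_one]
  rcases E.hε with h | h <;> simp only [h] <;> field_simp

lemma Z_of_sq [Finite K] (hm : 1 ≤ m) (hσ : ∀ t, E.σ t = t) (hΛ : ∀ c, E.Λ 0 c)
    (hL : ∀ a b, In a b → E.L a b ≤ M) {b : J m} {k : K} (hk : k ≠ 0) {g : G}
    (hc : ∀ a t, In a b → Commute g (E.xl a b.rev t)) (hg : E.T (E.e b) 0 k * g ∈ M) (a : J m)
    (c : K) : E.T (E.e a) 0 c ∈ M := by
  have k1 : ∀ {a b : J m} {k : K} {g : G}, In a b → k ≠ 0 → (∀ t, Commute g (E.xl a b.rev t)) →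
      E.T (E.e b) 0 k * g ∈ M → ∀ c, E.T (E.e a) 0 c ∈ M := fun {a b k g} hab hk hc hg c => by
    have ad : ∀ c, E.Adm (E.e a) 0 c := fun c => (P.zero (hΛ c)).adm a
    let A : AddSubgroup K :=
      { carrier := {t | E.T (E.e a) 0 (t * (E.ε * k)) ∈ M}
        add_mem' := fun {s t} hs ht => by
          have := M.mul_mem hs ht
          rw [T_mul (ad _) (ad _)] at this
          simpa [add_mul] using this
        zero_mem' := by simp [T_zero (E.e_Λ a)]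
        neg_mem' := fun {s} hs => by
          have := M.inv_mem hs
          rw [T_inv (ad _), neg_zero] at this
          have h1 := E.Λ_B (hΛ (s * (E.ε * k)))
          have h2 : E.ε * E.σ (s * (E.ε * k)) = -s * (E.ε * k) := by
            rw [map_zero] at h1
            linear_combination (-E.ε) * h1 + (-(s * (E.ε * k))) * E.ε_mul_ε
          rwa [h2] at this }
    have := mem_of_sq A (fun s => by
      have := S_move hL hab (P.zero (hΛ k)) hc hg s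
      simpa [hσ, sq, A] using this) (c * (E.ε * k)⁻¹)
    have h3 : E.ε * k ≠ 0 := mul_ne_zero E.ε_ne hk
    simpa [A, inv_mul_cancel_right₀ h3, -mul_inv_rev] using this
  by_cases hab : In a b
  · exact k1 hab hk (fun t => hc a t hab) hg c
  · obtain ⟨d, hd⟩ := exists_in1 hm a
    have : In d b := by
      rcases VC.in_cases a b with rfl | rfl | e
      exacts [hd.symm, hd.symm.rev, absurd e hab]
    exact k1 (g := 1) hd one_ne_zero (fun _ => Commute.one_left _)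
      (by simpa using k1 this hk (fun t => hc d t this) hg 1) c

lemma conj_diag {n h : G} {f f' : J m → K} {τ : Equiv.Perm (J m)} (hn : E.Mono n f' τ)
    (hh : E.Mono h f 1) : E.Mono (n * h * n⁻¹) (fun a => f (τ⁻¹ a)) 1 := fun a => by
  have := hn.ne (τ⁻¹ a)
  rw [(hn.mul hh).mul hn.inv a]
  simp only [mul_one, mul_inv_cancel, Equiv.Perm.coe_one, id]
  rw [mul_comm (f _), inv_mul_cancel_left₀ this]

lemma commute_conj {n h : G} {f f' : J m → K} {τ : Equiv.Perm (J m)} (hn : E.Mono n f' τ)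
    (hh : E.Mono h f 1) (h0 : ∀ v ∈ E.V0, E.ρ h v = v) : Commute h (n * h * n⁻¹) :=
  commute_Dg ⟨_, hh⟩ ⟨_, conj_diag hn hh⟩ fun v hv => by
    rw [h0 v hv, h0 _ ((conj_diag hn hh).mem_V0 hv)]

lemma conj_V0 {n h : G} {f' : J m → K} {τ : Equiv.Perm (J m)} (hn : E.Mono n f' τ)
    (h0 : ∀ v ∈ E.V0, E.ρ h v = v) (v : V) (hv : v ∈ E.V0) : E.ρ (n * h * n⁻¹) v = v := by
  rw [ρ_mul, ρ_mul, h0 _ (hn.inv.mem_V0 hv)]; simp

lemma conj_mem {x n h : G} (hh : h ∈ M) (hb : x * n ∈ M) : x * (n * h * n⁻¹) * x⁻¹ ∈ M := by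
  have := mul_mem (mul_mem hb hh) (inv_mem hb)
  simpa [mul_assoc] using this

lemma stepL {n h : G} {f f' : J m → K} {τ : Equiv.Perm (J m)} (hn : E.Mono n f' τ)
    (hh : E.Mono h f 1) (h0 : ∀ v ∈ E.V0, E.ρ h v = v) {a b : J m} (hab : In a b)
    (h1 : Spans (E.σ (f a) * f b)) (h2 : E.σ (f a) * f b ≠ 1)
    (h3 : E.σ (f (τ⁻¹ a)) * f (τ⁻¹ b) ≠ 1) (hM : h ∈ M) (hb : E.xl a b 1 * n ∈ M) :
    E.L a b ≤ M ∧ n ∈ M := by
  have : E.L a b ≤ M := by
    rintro _ ⟨t, rfl⟩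
    obtain ⟨y, hy, rfl⟩ := trick (M := M) (fun t x => x = E.xl a b t)
      (by rintro s t _ _ rfl rfl; exact E.xl_add _ _ _ _) (by rintro s _ rfl; exact (E.xl_neg _ _ _).symm)
      (commute_conj hn hh h0) (by rintro s _ rfl; exact hh.conj_xl hab s)
      (by rintro s _ rfl; exact (conj_diag hn hh).conj_xl hab s) h1 h2 h3 rfl hM (conj_mem hM hb) t
    exact hy
  exact ⟨this, (M.mul_mem_cancel_left (this (E.xl_mem _ _ _))).1 hb⟩

lemma diag_pow [Fintype K] {h : G} {f : J m → K} (hh : E.Mono h f 1)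
    (h0 : ∀ v ∈ E.V0, E.ρ h v = v) : h ^ (Fintype.card K - 1) = 1 := by
  have k : ∀ {x : V} {c : K}, E.ρ h x = c • x → c ≠ 0 →
      E.ρ (h ^ (Fintype.card K - 1)) x = E.ρ 1 x := fun {x c} e hc => by
    have : ∀ n : ℕ, E.ρ (h ^ n) x = c ^ n • x := fun n => by
      induction n with
      | zero => simp
      | succ n ih => rw [pow_succ', ρ_mul, ih, map_smul, e, smul_smul, pow_succ]
    rw [this, FiniteField.pow_card_sub_one_eq_one c hc]; simp
  exact E.ext' (fun a => k (hh a) (hh.ne a)) fun v hv =>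
    k (c := 1) (by rw [h0 v hv, one_smul]) one_ne_zero

lemma split_mem [Finite K] {h : G} {f : J m → K} (hh : E.Mono h f 1)
    (h0 : ∀ v ∈ E.V0, E.ρ h v = v) {u v : V} {c : K} (ha : E.Adm u v c)
    (hc : Commute h (E.T u v c)) (hM : h * E.T u v c ∈ M) : h ∈ M ∧ E.T u v c ∈ M := by
  have := Fintype.ofFinite K
  obtain ⟨q, hq⟩ := CharP.exists K
  have hp := CharP.char_is_prime K q
  refine mem_of_coprime hc (diag_pow hh h0) (E.T_pow_eq_one (p := q) ha) ?_ hM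
  refine Nat.Coprime.pow_right _ ((Nat.Prime.coprime_iff_not_dvd hp).2 fun hd => ?_).symm
  obtain ⟨n, -, hn⟩ := FiniteField.card K q
  have h4 := Nat.dvd_sub (hn ▸ dvd_pow_self q n.2.ne' : q ∣ Fintype.card K) hd
  have : 1 < Fintype.card K := Fintype.one_lt_card
  rw [show Fintype.card K - (Fintype.card K - 1) = 1 by omega] at h4
  exact hp.one_lt.ne' (Nat.dvd_one.mp h4)

lemma exists_dS {v v' : V} {c c' : K} (h : E.P v c) (h' : E.P v' c') (hc : c ≠ 0) (hc' : c' ≠ 0)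
    (a : J m) : ∃ f, E.Mono (E.mS a v c * (E.mS a v' c')⁻¹) f 1 ∧ f a = c / c' ∧
      ∀ x, In a x → f x = 1 := by
  have h1 := (h.mono_mS hc a).mul (h'.mono_mS hc' a).inv
  rw [mul_inv_cancel] at h1
  refine ⟨_, h1, ?_, fun x hx => ?_⟩
  · have := E.κ_ne a.rev
    simp [fS, J.rev_ne]; field_simp
  · simp [fS, VC.τ_in hx hx, hx.1, hx.2]

lemma inv_apply {τ : Equiv.Perm (J m)} {a b : J m} (h : τ a = b) : τ⁻¹ b = a :=
  Equiv.Perm.inv_eq_iff_eq.2 h.symm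

lemma D_ext (hm : 2 ≤ m) {n : G} {f : J m → K} {τ : Equiv.Perm (J m)} (h : Cyc E n f τ m)
    (hz : τ (p m m) = (p m m).rev) (hn : n ∈ M) (hL : E.L (p m 0) (p m 1).rev ≤ M)
    {a0 : J m} (ha : In a0 (p m m)) {u : K} (hu : u ≠ 0) (hx0 : E.xl a0 (p m m) u ∈ M) (a b : J m)
    (hab : In a b) : E.L a b ≤ M := by
  have i0 : ∀ {x : J m}, In x (p m m) → x.val < m ∨ x.rev.val < m := fun {x} hx => by
    rw [In.iff, p_val le_rfl] at hx
    rw [Fin.val_rev]; omega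
  have k0 : ∀ {x y : J m}, In x (p m m) → In y (p m m) → In x y → E.L x y ≤ M := fun hx hy =>
    h.L_le (by omega) hm hn hL (i0 hx) (i0 hy)
  have k1 : ∀ {x y : J m} {u : K}, In x (p m m) → In y (p m m) → In x y → u ≠ 0 →
      E.xl y (p m m) u ∈ M → E.L x (p m m) ≤ M := fun hx hy hxy hu hu' =>
    L_elt hxy.rev hx hy.rev' (k0 hx hy.rev' hxy.rev) hu (by rwa [Fin.rev_rev])
  have k2 : ∀ x, In x (p m m) → E.L x (p m m) ≤ M := fun x hx => by
    by_cases hxa : In x a0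
    · exact k1 hx ha hxa hu hx0
    · obtain ⟨c, hc⟩ := J.exists_in [x, p m m] (by simpa using hm)
      have c1 := hc x (by simp)
      have c2 := (hc (p m m) (by simp)).symm
      have : In c a0 := by
        rcases VC.in_cases x a0 with rfl | rfl | e
        exacts [c1.symm, c1.symm.rev, absurd e hxa]
      exact k1 hx c2 c1 one_ne_zero (k1 c2 ha this hu hx0 (E.xl_mem _ _ _))
  have k3 : ∀ x, In x (p m m) → E.L x (p m m).rev ≤ M := fun x hx => by
    have h1 : In (τ⁻¹ x) (p m m) := by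
      have := h.1.inv.in_map hx.rev
      rwa [inv_apply hz] at this
    have := L_conj h.1 hn h1 (k2 _ h1)
    simpa [hz] using this
  rcases VC.in_cases (p m m) a with rfl | rfl | e
  · rw [L_comm]; exact k2 _ hab.symm
  · rw [L_comm]; exact k3 _ (by simpa using hab.rev'.symm)
  rcases VC.in_cases (p m m) b with rfl | rfl | e'
  · exact k2 _ hab
  · exact k3 _ e.symm
  · exact k0 e.symm e'.symm hab

section two

variable (hK : ∀ t : K, t ≠ 0 → t = 1)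
include hK

lemma two_eq : (1 : K) + 1 = 0 := by
  by_contra h
  exact one_ne_zero (α := K) (by linear_combination hK _ h)

lemma add_self (t : K) : t + t = 0 := by linear_combination t * two_eq hK

lemma xl_cube {a b : J m} (h : In a b) : (E.xl a b 1 * E.xl b.rev a.rev 1) ^ 3 = 1 := by
  refine cube_eq_one (by rw [xl_add, two_eq hK, xl_zero]) (by rw [xl_add, two_eq hK, xl_zero]) ?_
  have h1 := (E.mono_wL h one_ne_zero).conj_xl h.symm.rev.rev' 1
  have := E.ε_ne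
  have := E.κ_ne b
  have := E.κ_ne a.rev
  rw [wL, hK (-(E.ε * (E.κ b)⁻¹ * 1)) (by simp [*]), hK (-(E.ε * (E.κ a.rev)⁻¹ * -1⁻¹)) (by simp [*]),
    hK (_ * _ * 1) (by simp [(E.mono_wL h one_ne_zero).ne])] at h1
  simpa using h1

lemma T_sq {v : V} (hv : E.P v 1) (a : J m) : E.T (E.e a) v 1 * E.T (E.e a) v 1 = 1 := by
  have h1 : E.B v v = 0 := by rw [hv.B0.2.2, hK _ E.ε_ne]; simp [two_eq hK]
  rw [T_mul (hv.adm a) (hv.adm a), h1, two_eq hK, ← one_smul K v, ← add_smul, two_eq hK]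
  simp [T_zero (E.e_Λ a)]

lemma T_cube {v : V} (hv : E.P v 1) (a : J m) : (E.T (E.e a) v 1 * E.T (E.e a.rev) v 1) ^ 3 = 1 := by
  refine cube_eq_one (T_sq hK hv _) (T_sq hK hv _) ?_
  have h0 : E.B v v = 0 := by rw [hv.B0.2.2, hK _ E.ε_ne]; simp [two_eq hK]
  have h1 := (hv.mono_mS one_ne_zero a).conj_T hv a.rev
  rw [hv.ρ_mS one_ne_zero a (hv.1 _) (hv.1 _), h0, hK _ ((hv.mono_mS one_ne_zero a).ne a.rev), mS,
    hK _ E.ε_ne, hK _ (E.κ_ne a)] at h1
  simpa using h1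

lemma L_two {a b : J m} (h : E.xl a b 1 ∈ M) : E.L a b ≤ M := by
  rintro _ ⟨t, rfl⟩
  by_cases ht : t = 0
  · simp [ht]
  · rwa [hK t ht]

lemma split_two {a b : J m} {g : G} (hg : g ^ 3 = 1) (hc : Commute (E.xl a b 1) g)
    (hM : E.xl a b 1 * g ∈ M) : E.L a b ≤ M ∧ g ∈ M := by
  have := mem_of_coprime hc (m := 2) (by rw [sq, xl_add, two_eq hK, xl_zero]) hg (by norm_num) hM
  exact ⟨L_two hK this.1, this.2⟩

end two

/-- The first step in rank at least three when there are short roots. -/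
lemma stepB [Finite K] (hm : 2 ≤ m) {n : G} {f : J m → K} {τ : Equiv.Perm (J m)}
    (h : Cyc E n f τ (m + 1)) {w : V} {d : K} (hw : E.P w d) (hd : d ≠ 0) :
    ∃ a b : G, ∀ M : Subgroup G, a ∈ M → b ∈ M → n ∈ M ∧ (∀ a b, In a b → E.L a b ≤ M) ∧
      ∃ c g, (∀ a t, In a c → Commute g (E.xl a c.rev t)) ∧ E.T (E.e c) w d * g ∈ M := by
  have i01 : In (p m 0) (p m 1) := in_p (by omega) (by omega) (by omega)
  have i02 : In (p m 0) (p m 2) := in_p (by omega) (by omega) (by omega)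
  have i12 : In (p m 1) (p m 2) := in_p (by omega) (by omega) (by omega)
  by_cases hK : ∀ t : K, t ≠ 0 → t = 1
  · obtain rfl := hK d hd
    refine ⟨E.xl (p m 0) (p m 1).rev 1 * (E.T (E.e (p m 2)) w 1 * E.T (E.e (p m 2).rev) w 1), n,
      fun M ha hb => ?_⟩
    obtain ⟨h1, h2⟩ := split_two hK (T_cube hK hw _)
      ((E.c90S i01.rev i02 i12.rev' hw 1).mul_right (E.c90S i01.rev i02.rev i12.rev.rev' hw 1)) ha
    refine ⟨hb, fun a b => h.L_le le_rfl (by omega) hb h1 (all_p a) (all_p b), _, _,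
      fun a t ha => ?_, h2⟩
    rw [xl_swap]
    exact (E.c45 ha.rev.symm hw _).symm
  push Not at hK
  obtain ⟨μ, h0, hμ⟩ := exists_prim K
  obtain ⟨g, f', h1, h2, h3, h4, h5, -⟩ := E.exists_hL i02 h0
  refine ⟨g * E.T (E.e (p m 1)) w d, E.xl (p m 0) (p m 1).rev 1 * n⁻¹, fun M ha hb => ?_⟩
  obtain ⟨h6, h7⟩ := split_mem h1 h5 (hw.adm _)
    (h1.commute_S (h4 _ i01 i12.symm) h5 (hw.mem _)).symm ha
  have e1 : f' (p m 1).rev = 1 := h4 _ i01.rev i12.symm.rev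
  obtain ⟨h8, h9⟩ := stepL h.1.inv h1 h5 i01.rev
    (by rw [e1, mul_one, h2]; exact spans_of_gen (prim_map hμ E.σσ))
    (by rw [e1, mul_one, h2]; exact prim_ne_one (prim_map hμ E.σσ) hK)
    (by
      rw [inv_inv, h.1.rev, h.2.1 0 (by omega), h.2.1 1 (by omega), h4 _ i01 i12.symm, h1.rev_eq, h3]
      simpa using prim_ne_one hμ hK) h6 hb
  rw [inv_mem_iff] at h9
  exact ⟨h9, fun a b => h.L_le le_rfl (by omega) h9 h8 (all_p a) (all_p b), _, 1,
    fun _ _ _ => Commute.one_left _, by simpa using h7⟩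

/-- Type `D`. -/
theorem gen_plus [Finite K] (hg : E.Gen) (hm : 3 ≤ m) (hS : ∀ v c, E.P v c → c = 0) :
    ∃ a b : G, Subgroup.closure {a, b} = ⊤ := by
  obtain ⟨n, f, τ, h, hz, -⟩ := exists_cycD E (m := m) (by omega)
  have fin : ∀ M : Subgroup G, (∀ a b, In a b → E.L a b ≤ M) → M = ⊤ := fun M hL =>
    top_of hg hL fun a => by
      rintro _ ⟨v, c, hv, rfl⟩
      obtain rfl := hS v c hv
      obtain rfl := hv.eq_zero
      rw [T_zero (E.e_Λ a)]; exact one_mem _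
  have i01 : In (p m 0) (p m 1) := in_p (by omega) (by omega) (by omega)
  have i02 : In (p m 0) (p m 2) := in_p (by omega) (by omega) (by omega)
  have i12 : In (p m 1) (p m 2) := in_p (by omega) (by omega) (by omega)
  have i0 : In (p m 0) (p m m) := in_p (by omega) (by omega) (by omega)
  have i1 : In (p m 1) (p m m) := in_p (by omega) (by omega) (by omega)
  have i2 : In (p m 2) (p m m) := in_p (by omega) (by omega) (by omega)
  by_cases hK : ∀ t : K, t ≠ 0 → t = 1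
  · refine two_gen_of (E.xl (p m 0) (p m 1).rev 1 *
      (E.xl (p m 2) (p m m) 1 * E.xl (p m m).rev (p m 2).rev 1)) n fun M ha hb => fin M ?_
    obtain ⟨h1, h2⟩ := split_two hK (xl_cube hK i2)
      ((E.c90 i01.rev i02 i0 i12.rev' i1.rev' i2 1 1).mul_right
        (E.c90 i01.rev i0.rev i02.rev i1.rev.rev' i12.rev.rev' i2.symm.rev.rev' 1 1)) ha
    have h3 : E.xl (p m 0) (p m 2).rev 1 ∈ M := h.L_le (by omega) (by omega) hb h1
      (Or.inl (by rw [p_val (by omega)]; omega))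
      (Or.inr (by rw [Fin.rev_rev, p_val (by omega)]; omega)) i02.rev (E.xl_mem _ _ _)
    have c : Commute (E.xl (p m 0) (p m 2).rev 1) (E.xl (p m m).rev (p m 2).rev 1) := by
      rw [xl_swap, E.xl_swap (p m m).rev]
      exact E.c60 i02.symm.rev' i2.rev.rev' i0.rev _ _
    have h4 := comm_mem h3 h2
    have e2 : ∀ x y z : G, Commute x z → ⁅x, y * z⁆ = ⁅x, y⁆ := fun x y z h => by
      simp only [commutatorElement_def, mul_inv_rev]
      rw [mul_assoc x, mul_assoc x, mul_assoc y z, ← h.inv_left.eq]; group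
    have e3 := E.c120 i02.rev i0 i2.rev' 1 1
    rw [Fin.rev_rev] at e3
    rw [e2 _ _ _ c, e3] at h4
    exact D_ext (by omega) h hz hb h1 i0 (by simp [E.ε_ne, E.κ_ne]) h4
  push Not at hK
  obtain ⟨μ, h0, hμ⟩ := exists_prim K
  obtain ⟨g, f', h1, h2, h3, h4, h5, -⟩ := E.exists_hL i02 h0
  refine two_gen_of (g * E.xl (p m 1) (p m m) 1) (E.xl (p m 0) (p m 1).rev 1 * n⁻¹)
    fun M ha hb => fin M ?_
  have c := (h1.commute_L i1 (by simp [h4 _ i01 i12.symm, h4 _ i0 i2]) (E.xl_mem _ _ 1)).symm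
  rw [E.xl_eq i1] at ha c
  obtain ⟨h6, h7⟩ := split_mem h1 h5 (E.adm_xl i1 1) c ha
  rw [← E.xl_eq i1] at h7
  have e1 : f' (p m 1).rev = 1 := h4 _ i01.rev i12.symm.rev
  obtain ⟨h8, h9⟩ := stepL h.1.inv h1 h5 i01.rev
    (by rw [e1, mul_one, h2]; exact spans_of_gen (prim_map hμ E.σσ))
    (by rw [e1, mul_one, h2]; exact prim_ne_one (prim_map hμ E.σσ) hK)
    (by
      rw [inv_inv, h.1.rev, h.2.1 0 (by omega), h.2.1 1 (by omega), h4 _ i01 i12.symm, h1.rev_eq, h3]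
      simpa using prim_ne_one hμ hK) h6 hb
  rw [inv_mem_iff] at h9
  exact D_ext (by omega) h hz h9 h8 i1 one_ne_zero h7

/-- Minus type. -/
theorem gen_minus [Finite K] (hg : E.Gen) (hm : 2 ≤ m) (hZ : ∀ c, E.Λ 0 c → c = 0) {v w : V}
    (hv : v ∈ E.V0) (hw : w ∈ E.V0) (hB : E.B w v ≠ 0) (hs : ∀ u ∈ E.V0, ∃ s t : K, u = s • v + t • w) :
    ∃ a b : G, Subgroup.closure {a, b} = ⊤ := by
  obtain ⟨c, hc⟩ := E.Λ_ex v
  obtain ⟨d, hd⟩ := E.Λ_ex w
  have pv : E.P v c := ⟨hv, hc⟩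
  have pw : E.P w d := ⟨hw, hd⟩
  have c0 : c ≠ 0 := by rintro rfl; simp [pv.eq_zero] at hB
  have d0 : d ≠ 0 := by rintro rfl; simp [pw.eq_zero] at hB
  obtain ⟨n, f, τ, h, hn⟩ := exists_cycB pv c0
  obtain ⟨a, b, k⟩ := stepB hm h pw d0
  refine two_gen_of a b fun M ha hb => ?_
  obtain ⟨h1, hL, x, g, h2, h3⟩ := k M ha hb
  obtain ⟨y, hy⟩ := exists_in1 (m := m) (by omega) x
  have w1 : W E M y ((-1 : K) • -w) :=
    ⟨_, pw.neg.smul _, S_move hL hy.symm pw (fun t => h2 y t hy.symm) h3 (-1)⟩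
  rw [neg_one_smul, neg_neg] at w1
  have w2 := w1.conj h.1 h1
  refine top_of hg hL fun a => S_of_WZ (fun u hu => ?_) fun c hc => ?_
  · obtain ⟨s, t, rfl⟩ := hs u hu
    have e0 : E.ε * c⁻¹ * E.B w v ≠ 0 := by simp [E.ε_ne, c0, hB]
    have e1 := E.σ_ne (h.1.ne y)
    convert (w1.move (by omega) hL a (t + s / (E.ε * c⁻¹ * E.B w v))).add
      (w2.move (by omega) hL a (-(s / (E.ε * c⁻¹ * E.B w v)) * (E.σ (f y))⁻¹)) using 1
    rw [hn w hw]
    generalize E.ε * c⁻¹ * E.B w v = r at e0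
    match_scalars <;> field_simp <;> ring
  · rw [hZ c hc, T_zero (E.e_Λ a)]; exact one_mem _

/-- Symplectic groups. -/
theorem gen_sp [Finite K] (hg : E.Gen) (hm : 1 ≤ m) (hσ : ∀ t, E.σ t = t) (hΛ : ∀ c, E.Λ 0 c)
    (hV : ∀ v ∈ E.V0, v = 0) (h2 : m = 1 → ∃ t : K, t ≠ 0 ∧ t ≠ 1) :
    ∃ a b : G, Subgroup.closure {a, b} = ⊤ := by
  obtain ⟨n, f, τ, h, -⟩ := exists_cycB (P.zero (hΛ 1)) one_ne_zero
  have fin : ∀ M : Subgroup G, (∀ a b, In a b → E.L a b ≤ M) → ∀ c g,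
      (∀ a t, In a c → Commute g (E.xl a c.rev t)) → E.T (E.e c) 0 1 * g ∈ M → M = ⊤ :=
    fun M hL c g h1 h2 => top_of hg hL fun a => by
      rintro _ ⟨v, c, hv, rfl⟩
      obtain rfl := hV v hv.1
      exact Z_of_sq hm hσ hΛ hL one_ne_zero h1 h2 a c
  by_cases hm2 : 2 ≤ m
  · obtain ⟨a, b, k⟩ := stepB hm2 h (P.zero (hΛ 1)) one_ne_zero
    refine two_gen_of a b fun M ha hb => ?_
    obtain ⟨-, hL, x, g, h2, h3⟩ := k M ha hb
    exact fin M hL x g h2 h3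
  obtain rfl : m = 1 := by omega
  have i01 : In (p 1 0) (p 1 1) := in_p (by omega) (by omega) (by omega)
  obtain ⟨μ, h0, hμ⟩ := exists_prim K
  obtain ⟨f', h1, h3, h4⟩ := exists_dS (P.zero (hΛ μ)) (P.zero (hΛ 1)) h0 one_ne_zero (p 1 0)
  generalize E.mS (p 1 0) 0 μ * (E.mS (p 1 0) 0 1)⁻¹ = g at h1
  have h5 : ∀ v ∈ E.V0, E.ρ g v = v := fun v hv => by simp [hV v hv]
  rw [div_one] at h3
  refine two_gen_of (g * E.T (E.e (p 1 1)) 0 1) (E.xl (p 1 0) (p 1 1).rev 1 * n⁻¹) fun M ha hb => ?_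
  obtain ⟨h6, h7⟩ := split_mem h1 h5 ((P.zero (hΛ 1)).adm _)
    (h1.commute_S (h4 _ i01) h5 ((P.zero (hΛ 1)).mem _)).symm ha
  have e1 : f' (p 1 1).rev = 1 := h4 _ i01.rev
  obtain ⟨h8, h9⟩ := stepL h.1.inv h1 h5 i01.rev
    (by rw [e1, mul_one, h3, hσ]; exact spans_of_gen hμ)
    (by rw [e1, mul_one, h3, hσ]; exact prim_ne_one hμ (h2 rfl))
    (by
      rw [inv_inv, h.1.rev, h.2.1 0 (by omega), show τ (p 1 1) = _ from h.2.2, h4 _ i01, Fin.rev_rev, h3]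
      simpa using prim_ne_one hμ (h2 rfl)) h6 hb
  rw [inv_mem_iff] at h9
  exact fin M (fun a b => h.L_le le_rfl (by omega) h9 h8 (all_p a) (all_p b)) _ 1
    (fun _ _ _ => Commute.one_left _) (by simpa using h7)

/-- Unitary groups of even dimension. -/
theorem gen_even [Finite K] (hg : E.Gen) (hm : 1 ≤ m) (hσ : ∃ t, E.σ t ≠ t)
    (hΛ : ∀ c, E.Λ 0 c → ∃ s, c = s - E.ε * E.σ s) (hε : E.ε = 1)
    (hV : ∀ v ∈ E.V0, v = 0) : ∃ a b : G, Subgroup.closure {a, b} = ⊤ := by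
  obtain ⟨r, hr⟩ := hσ
  have c0 : r - E.ε * E.σ r ≠ 0 := by rw [hε, one_mul]; exact sub_ne_zero.2 hr.symm
  obtain ⟨n, f, τ, h, -⟩ := exists_cycB (P.zero (E.Λ_min r)) c0
  have i01 : In (p m 0) (p m 1) := in_p (by omega) (by omega) (by omega)
  obtain ⟨μ, h0, hμ⟩ := exists_prim K
  have μ1 : E.σ μ ≠ μ := fun e => by
    obtain ⟨j, rfl⟩ := hμ r (by rintro rfl; simp at hr)
    exact hr (by rw [map_pow, e])
  obtain ⟨g, f', h1, h2, h3, h4, h5, -⟩ := E.exists_hL i01.rev h0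
  refine two_gen_of g (E.xl (p m 0) (p m 1).rev 1 * n⁻¹) fun M ha hb => ?_
  have e0 : f' (p m 1) = μ⁻¹ := by
    have := h1.rev_eq (p m 1).rev
    rwa [Fin.rev_rev, h3, σ_σ] at this
  obtain ⟨h8, h9⟩ := stepL h.1.inv h1 h5 i01.rev
    (by rw [h2, h3, ← sq]; exact spans_sq (prim_map hμ E.σσ))
    (by
      rw [h2, h3, ← map_mul, Ne, map_eq_one_iff _ E.σ.injective, mul_self_eq_one_iff]
      rintro (rfl | rfl) <;> simp at μ1)
    (by
      rw [inv_inv, h.1.rev, h.2.1 0 (by omega), e0, map_inv₀, Ne, inv_mul_eq_one₀ (E.σ_ne h0)]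
      by_cases hm1 : m = 1
      · subst hm1
        rwa [show τ (p 1 1) = _ from h.2.2, Fin.rev_rev, h2]
      · rw [h.2.1 1 (by omega), h4 _ (in_p (by omega) (by omega) (by omega)).rev
          (in_p (by omega) (by omega) (by omega)).rev.rev', map_eq_one_iff _ E.σ.injective]
        rintro rfl; simp at μ1) ha hb
  rw [inv_mem_iff] at h9
  have hL := fun a b => h.L_le le_rfl (by omega) h9 h8 (all_p a) (all_p b)
  refine top_of hg hL fun a => ?_
  rintro _ ⟨v, c, hv, rfl⟩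
  obtain rfl := hV v hv.1
  obtain ⟨s, rfl⟩ := hΛ c hv.2
  exact Z_of_L hm hL a s

section odd

variable {v0 : V} (h0 : v0 ∈ E.V0) (hB : E.B v0 v0 ≠ 0) (hV : ∀ v ∈ E.V0, ∃ t : K, t • v0 = v)
  (hΛ : ∀ c, E.Λ 0 c → ∃ s, c = s - E.ε * E.σ s)

include hB hV hΛ in
lemma S_of_W {a : J m} (hW : ∀ t : K, W E M a (t • v0)) : E.S a ≤ M := by
  refine S_of_WZ (fun v hv => ?_) fun c hc => ?_
  · obtain ⟨t, rfl⟩ := hV v hv
    exact hW t
  · obtain ⟨s, rfl⟩ := hΛ c hc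
    obtain ⟨c, h1, h2⟩ := hW 1
    obtain ⟨d, h3, h4⟩ := hW ((E.ε * E.B v0 v0)⁻¹ * s)
    have := comm_mem h2 h4
    rw [E.T_comm (h1.adm a) (h3.adm a)] at this
    convert this using 2
    have := E.ε_ne
    simp only [map_smulₛₗ, LinearMap.smul_apply, RingHom.id_apply, map_mul, map_inv₀, σ_ε, σ_B,
      map_one, smul_eq_mul]
    rcases E.hε with h | h <;> simp only [h] <;> field_simp

include hB in
lemma top_of_S (hg : E.Gen) (h0 : v0 ∈ E.V0) (hS : ∀ a, E.S a ≤ M) : M = ⊤ := by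
  refine top_of hg (fun a b hab => ?_) hS
  rintro _ ⟨t, rfl⟩
  obtain ⟨c, hc⟩ := E.Λ_ex v0
  have h1 : E.P v0 c := ⟨h0, hc⟩
  have := comm_mem (hS b (h1.mem b)) (hS a ((h1.smul (t / E.B v0 v0)).mem a))
  rw [E.cSS hab.symm h1 (h1.smul _)] at this
  simpa [hB] using this

include hB hV hΛ in
lemma stepS {a : J m} {h n : G} {f f' : J m → K} {τ : Equiv.Perm (J m)} (hn : E.Mono n f' τ)
    (hh : E.Mono h f 1) {ν : K} (hν : E.ρ h v0 = ν • v0) (h1 : Spans (E.σ (f a) * ν))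
    (h2 : E.σ (f a) * ν ≠ 1) (h3 : E.σ (f (τ⁻¹ a)) * ν ≠ 1) {c : K} (hc : E.P v0 c) (hM : h ∈ M)
    (hb : E.T (E.e a) v0 c * n ∈ M) : E.S a ≤ M ∧ n ∈ M := by
  have k : ∀ v ∈ E.V0, E.ρ h v = ν • v := fun v hv => by
    obtain ⟨t, rfl⟩ := hV v hv
    rw [map_smul, hν, smul_comm]
  have k' : ∀ v ∈ E.V0, E.ρ (n * h * n⁻¹) v = ν • v := fun v hv => by
    rw [ρ_mul, ρ_mul, k _ (hn.inv.mem_V0 hv)]; simp
  have k2 : ∀ {g : G} {f : J m → K}, E.Mono g f 1 → E.ρ g v0 = ν • v0 → ∀ {s x},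
      (∃ c, E.P (s • v0) c ∧ x = E.T (E.e a) (s • v0) c) → ∃ c, E.P ((E.σ (f a) * ν * s) • v0) c ∧
        g * x * g⁻¹ = E.T (E.e a) ((E.σ (f a) * ν * s) • v0) c := by
    rintro g f hg e s _ ⟨c, h1, rfl⟩
    have h2 := hg.P h1 a
    have h3 := hg.conj_T h1 a
    rw [map_smul, e, smul_smul, smul_smul, mul_right_comm] at h2 h3
    exact ⟨_, h2, h3⟩
  have : E.S a ≤ M := S_of_W hB hV hΛ fun t => by
    obtain ⟨y, hy, c, h4, rfl⟩ := trick (M := M)
      (fun t x => ∃ c, E.P (t • v0) c ∧ x = E.T (E.e a) (t • v0) c)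
      (by
        rintro s t _ _ ⟨c, h, rfl⟩ ⟨d, h', rfl⟩
        exact ⟨_, add_smul s t v0 ▸ h.add h', add_smul s t v0 ▸ T_mul (h.adm a) (h'.adm a)⟩)
      (by
        rintro s _ ⟨c, h, rfl⟩
        exact ⟨_, neg_smul s v0 ▸ h.neg, neg_smul s v0 ▸ T_inv (h.adm a)⟩)
      (commute_Dg ⟨_, hh⟩ ⟨_, conj_diag hn hh⟩ fun v hv => by
        rw [k' v hv, k v hv, map_smul, map_smul, k v hv, k' v hv])
      (k2 hh hν) (k2 (conj_diag hn hh) (k' v0 hc.1)) h1 h2 h3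
      (x := E.T (E.e a) v0 c) ⟨c, by simpa using hc, by simp⟩ hM (conj_mem hM hb) t
    exact ⟨c, h4, hy⟩
  exact ⟨this, (M.mul_mem_cancel_left (this (hc.mem a))).1 hb⟩

include h0 hB hV hΛ in
/-- Odd dimension. -/
theorem gen_odd [Finite K] (hg : E.Gen) (hm : 1 ≤ m) (hK : ∃ t : K, t ≠ 0 ∧ t ≠ 1) :
    ∃ a b : G, Subgroup.closure {a, b} = ⊤ := by
  obtain ⟨c, hc⟩ := E.Λ_ex v0
  have pv : E.P v0 c := ⟨h0, hc⟩
  have c0 : c ≠ 0 := by rintro rfl; simp [pv.eq_zero] at hB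
  obtain ⟨n, f, τ, h, -⟩ := exists_cycB pv c0
  have i01 : In (p m 0) (p m 1) := in_p (by omega) (by omega) (by omega)
  obtain ⟨μ, μ0, hμ⟩ := exists_prim K
  obtain ⟨g, f', h1, h2, h3, -, h5, -⟩ := E.exists_hL i01 μ0
  refine two_gen_of g (E.T (E.e (p m 0)) v0 c * n⁻¹) fun M ha hb => ?_
  obtain ⟨h8, h9⟩ := stepS hB hV hΛ h.1.inv h1 (ν := 1) (by rw [h5 _ h0, one_smul])
    (by rw [mul_one, h2]; exact spans_of_gen (prim_map hμ E.σσ))
    (by rw [mul_one, h2]; exact prim_ne_one (prim_map hμ E.σσ) hK)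
    (by rw [inv_inv, h.2.1 0 (by omega), h3, mul_one, σ_σ]; exact prim_ne_one hμ hK) pv ha hb
  rw [inv_mem_iff] at h9
  exact top_of_S hB hg h0 fun a => h.S_le le_rfl h9 h8 (all_p a)

end odd

section unitary

open H11.U

variable [Fintype K] {q : ℕ} [IsSq K q]

lemma spans_xi (hq : q ≠ 2) {μ : K} (h0 : μ ≠ 0) (hμ : ∀ t, t ≠ 0 → ∃ j : ℕ, t = μ ^ j) :
    Spans (cj q μ * (cj q μ / μ)) ∧ cj q μ * (cj q μ / μ) ≠ 1 ∧ μ⁻¹ * (cj q μ / μ) ≠ 1 := by
  have h2 := two_le_q K q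
  have hK : Nat.card K = q ^ 2 := Nat.card_eq_fintype_card.trans IsSq.card_eq
  obtain ⟨r, rfl⟩ : ∃ r, q = r + 3 := ⟨q - 3, by omega⟩
  have e : cj (r + 3) μ * (cj (r + 3) μ / μ) = μ ^ (2 * r + 5) := by
    rw [cj_apply]; field_simp; ring
  have e' : μ⁻¹ * (cj (r + 3) μ / μ) = μ ^ (r + 1) := by
    rw [cj_apply]; field_simp; ring
  have k : ∀ s, 2 ≤ s → s ^ 2 ≤ Nat.card K → (μ ^ (2 * r + 5)) ^ (s - 1) ≠ 1 := fun s s2 hs h => by
    obtain ⟨t, rfl⟩ : ∃ t, s = t + 2 := ⟨s - 2, by omega⟩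
    have h1 := (prim_dvd h0 hμ (by rwa [← pow_mul] at h)).mul_right (2 * r + 7)
    rw [hK] at h1 hs
    have h3 : (r + 3) ^ 2 - 1 = r ^ 2 + 6 * r + 8 := by
      rw [show (r + 3) ^ 2 = r ^ 2 + 6 * r + 8 + 1 by ring]; rfl
    rw [h3, show (2 * r + 5) * (t + 2 - 1) * (2 * r + 7) =
      (r ^ 2 + 6 * r + 8) * (4 * (t + 1)) + 3 * (t + 1) by
        rw [show t + 2 - 1 = t + 1 from rfl]; ring, Nat.dvd_add_right (dvd_mul_right _ _)] at h1
    have h4 := Nat.le_of_dvd (by omega) h1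
    have h5 : t + 2 ≤ r + 3 := by nlinarith
    nlinarith
  refine ⟨e ▸ spans_of_order (pow_ne_zero _ h0) k, fun h => k 2 le_rfl (by rw [hK]; nlinarith)
    (by rw [← e, h]; simp), fun h => ?_⟩
  have h1 := Nat.le_of_dvd (by omega) (prim_dvd h0 hμ (e' ▸ h))
  rw [hK, show (r + 3) ^ 2 = r ^ 2 + 6 * r + 8 + 1 by ring] at h1
  omega

lemma exists_sub_cj {c : K} (hc : cj q c = -c) : ∃ s, c = s - cj q s := by
  obtain ⟨r, hr⟩ := exists_cj_ne K q
  have : r - cj q r ≠ 0 := sub_ne_zero.2 hr.symm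
  have : cj q r - r ≠ 0 := sub_ne_zero.2 hr
  refine ⟨c / (r - cj q r) * r, ?_⟩
  simp only [map_mul, map_div₀, map_sub, cj_cj, hc]
  field_simp; ring

lemma snc_min (A : E.SNC q) (c : K) (hc : E.Λ 0 c) : ∃ s, c = s - E.ε * E.σ s := by
  obtain ⟨s, hs⟩ := exists_sub_cj (q := q) (A.σ_eq c ▸ A.Λ0.1 hc)
  exact ⟨s, by rw [A.ε_eq, one_mul, A.σ_eq, ← hs]⟩

/-- Unitary groups of odd dimension. -/
theorem gen_snc (A : E.SNC q) (hg : E.Gen) (hq : m = 0 → q ≠ 2) :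
    ∃ a b : G, Subgroup.closure {a, b} = ⊤ := by
  have hB : E.B A.v0 A.v0 ≠ 0 := by rw [A.B_eq]; exact one_ne_zero
  by_cases hm : 1 ≤ m
  · obtain ⟨r, hr⟩ := exists_cj_ne K q
    exact gen_odd A.mem hB A.V0_eq (snc_min A) hg hm
      ⟨r, by rintro rfl; simp at hr, by rintro rfl; simp at hr⟩
  obtain rfl : m = 0 := by omega
  obtain ⟨c, hc⟩ := E.Λ_ex A.v0
  have pv : E.P A.v0 c := ⟨A.mem, hc⟩
  have c0 : c ≠ 0 := by rintro rfl; simp [pv.eq_zero] at hB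
  obtain ⟨n, f, τ, h, -⟩ := exists_cycB pv c0
  obtain ⟨μ, μ0, hμ⟩ := exists_prim K
  obtain ⟨g, f', h1, h2, -⟩ := A.exists_d (p 0 0) μ0
  obtain ⟨k1, k2, k3⟩ := spans_xi (hq rfl) μ0 hμ
  refine two_gen_of g (E.T (E.e (p 0 0)) A.v0 c * n⁻¹) fun M ha hb => ?_
  obtain ⟨h8, h9⟩ := stepS hB A.V0_eq (snc_min A) h.1.inv h1.1 h1.2
    (by rwa [h2, A.σ_eq]) (by rwa [h2, A.σ_eq])
    (by rwa [inv_inv, show τ (p 0 0) = _ from h.2.2, h1.1.rev_eq, map_inv₀, σ_σ, h2, A.σ_eq]) pv ha hb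
  rw [inv_mem_iff] at h9
  exact top_of_S hB hg A.mem fun a => h.S_le le_rfl h9 h8 (all_p a)

end unitary

end H37.GenCl
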